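import Cfsg.Agent.H533.Wf.Kills

/-!
# S3826: minimal configurations inside the automorphism group (helper866)

`Pr p C D` (`C`, `D` sets of automorphisms of `Y`): everything a minimal configuration `Cfg p S _ _`, `S ≃ Y`, gives
inside `MulAut Y`:
* `kill` : the component kill;
* `pair` : the pairs generate `p`-groups;
* `core` : the theorem in the stabiliser of something.

`WfRow.of_pr` : if there is no `Pr p C D` then `WfRow p Y`.
-/

set_option autoImplicit false
set_option linter.unusedSectionVars false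

namespace Cfsg.Agent.H866.D4Wf

universe u v

open Subgroup Cfsg Cfsg.Agent.H533.T5 Cfsg.Agent.H533.Wf

/-- The trace of a minimal configuration in the automorphism group of the simple group. -/
structure Pr (p : ℕ) {Y : Type v} [Group Y] (C D : Set (MulAut Y)) : Prop where
  neC : C.Nonempty
  neD : D.Nonempty
  conjC : ∀ y : Y, ∀ x ∈ C, MulAut.conj y * x * (MulAut.conj y)⁻¹ ∈ C
  conjD : ∀ y : Y, ∀ x ∈ D, MulAut.conj y * x * (MulAut.conj y)⁻¹ ∈ D
  ordC : ∀ x ∈ C, orderOf x = p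
  ordD : ∀ x ∈ D, orderOf x = p
  kill : ∀ L : Subgroup Y, QS L → L ≠ ⊤ → ∀ x ∈ C, ∀ x' ∈ D, (∀ l, x l ∈ L ↔ l ∈ L) → (∀ l, x' l ∈ L ↔ l ∈ L) →
    (∃ l ∈ L, x l ≠ l) → (∃ l ∈ L, x' l ≠ l) → False
  pair : ∀ x ∈ C, ∀ x' ∈ D, IsPGroup p ↥(Subgroup.closure ({x, x'} : Set (MulAut Y)))
  core : ∀ H : Subgroup (MulAut Y), (∃ y : Y, MulAut.conj y ∉ H) → ∃ R : Subgroup (MulAut Y), IsPGroup p ↥R ∧
    (∀ y : Y, MulAut.conj y ∈ H → ∀ r ∈ R, MulAut.conj y * r * (MulAut.conj y)⁻¹ ∈ R) ∧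
    (∀ x ∈ C, x ∈ H → ∀ r ∈ R, x * r * x⁻¹ ∈ R) ∧
    (∀ x ∈ D, x ∈ H → ∀ r ∈ R, x * r * x⁻¹ ∈ R) ∧
    ∀ x ∈ C, x ∈ H → ∀ x' ∈ D, x' ∈ H → x⁻¹ * x'⁻¹ * x * x' ∈ R

theorem Pr.symm {p : ℕ} {Y : Type v} [Group Y] {C D : Set (MulAut Y)} (h : Pr p C D) : Pr p D C where
  neC := h.neD
  neD := h.neC
  conjC := h.conjD
  conjD := h.conjC
  ordC := h.ordD
  ordD := h.ordC
  kill := fun L hL hT x hx x' hx' h1 h2 h3 h4 => h.kill L hL hT x' hx' x hx h2 h1 h4 h3
  pair := fun x hx x' hx' => by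
    rw [Set.pair_comm]
    exact h.pair x' hx' x hx
  core := fun H hH => by
    obtain ⟨R, h1, h2, h3, h4, h5⟩ := h.core H hH
    refine ⟨R, h1, h2, h4, h3, fun x hx hxH x' hx' hxH' => ?_⟩
    have := inv_mem (h5 x' hx' hxH' x hx hxH)
    have e : (x'⁻¹ * x⁻¹ * x' * x)⁻¹ = x⁻¹ * x'⁻¹ * x * x' := by group
    rwa [e] at this

section emb

variable {G : Type u} [Group G] {S : Subgroup G}

/-- The action on a normal subgroup. -/
theorem exists_emb (hn : S.Normal) (hc : Subgroup.centralizer (S : Set G) = ⊥) {Y : Type v} [Group Y] (e : S ≃* Y) :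
    ∃ (ρ : G →* MulAut Y) (ι : Y →* G), Function.Injective ρ ∧ Function.Injective ι ∧ ι.range = S ∧
      (∀ y, ρ (ι y) = MulAut.conj y) ∧ ∀ g y, ι (ρ g y) = g * ι y * g⁻¹ := by
  let φ : G →* MulAut S := MulAut.conjNormal
  have hφ : Function.Injective φ := by
    rw [injective_iff_map_eq_one]
    intro g hg
    have h1 : g ∈ Subgroup.centralizer (S : Set G) := by
      rw [Subgroup.mem_centralizer_iff]
      intro s hs
      have h2 : (φ g) ⟨s, hs⟩ = ⟨s, hs⟩ := by rw [hg]; rfl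
      have h3 : g * s * g⁻¹ = s := by
        have := congrArg Subtype.val h2
        rwa [MulAut.conjNormal_apply] at this
      calc s * g = (g * s * g⁻¹) * g := by rw [h3]
        _ = g * s := by group
    rwa [hc, Subgroup.mem_bot] at h1
  let c : MulAut S →* MulAut Y := (MulAut.congr e).toMonoidHom
  have hcc : ∀ (α : MulAut S) (x : Y), c α x = e (α (e.symm x)) := fun α x => rfl
  have hcinj : Function.Injective c := (MulAut.congr e).injective
  let ι : Y →* G := S.subtype.comp e.symm.toMonoidHom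
  have hιc : ∀ y, ι y = ((e.symm y : S) : G) := fun y => rfl
  have key : ∀ g y, ι (c (φ g) y) = g * ι y * g⁻¹ := by
    intro g y
    rw [hιc, hcc, MulEquiv.symm_apply_apply, MulAut.conjNormal_apply, hιc]
  have hι : Function.Injective ι := S.subtype_injective.comp e.symm.injective
  refine ⟨c.comp φ, ι, hcinj.comp hφ, hι, ?_, fun y => ?_, key⟩
  · ext g
    constructor
    · rintro ⟨y, rfl⟩
      rw [hιc]
      exact (e.symm y).2
    · intro hg
      refine ⟨e ⟨g, hg⟩, ?_⟩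
      rw [hιc, MulEquiv.symm_apply_apply]
  · ext z
    apply hι
    have h1 := key (ι y) z
    rw [MulAut.conj_apply, map_mul, map_mul, map_inv]
    exact h1

end emb

/-- The rows from the automorphism groups. -/
theorem wfRow_of_pr {p : ℕ} [Fact p.Prime] {Y : Type v} [Group Y]
    (hY : ∀ C D : Set (MulAut Y), Pr p C D → False) : WfRow.{u, v} p Y := by
  rintro G _ _ S C D h ⟨e⟩
  have hSn := h.normal
  obtain ⟨ρ, ι, hρ, hι, hr, hρι, key⟩ := exists_emb h.normal h.cent e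
  have hmapc : ∀ y : Y, ∀ c : G, MulAut.conj y * ρ c * (MulAut.conj y)⁻¹ = ρ (ι y * c * (ι y)⁻¹) := by
    intro y c
    rw [map_mul, map_mul, map_inv, hρι]
  apply hY (ρ '' C) (ρ '' D)
  refine ⟨h.neC.image _, h.neD.image _, ?_, ?_, ?_, ?_, ?_, ?_, ?_⟩
  · rintro y _ ⟨c, hc, rfl⟩
    rw [hmapc]
    exact ⟨_, h.conjC _ c hc, rfl⟩
  · rintro y _ ⟨c, hc, rfl⟩
    rw [hmapc]
    exact ⟨_, h.conjD _ c hc, rfl⟩
  · rintro _ ⟨c, hc, rfl⟩
    rw [orderOf_injective ρ hρ]
    exact h.ordC c hc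
  · rintro _ ⟨c, hc, rfl⟩
    rw [orderOf_injective ρ hρ]
    exact h.ordD c hc
  · rintro L hL hLt _ ⟨c, hc, rfl⟩ _ ⟨d, hd, rfl⟩ hcL hdL ⟨l, hl, hcl⟩ ⟨m, hm, hdm⟩
    -- the image of `L`
    have hmap : ∀ g : G, (∀ l, ρ g l ∈ L ↔ l ∈ L) → g ∈ Subgroup.normalizer ((L.map ι : Subgroup G) : Set G) := by
      intro g hg
      rw [Subgroup.mem_normalizer_iff]
      intro x
      constructor
      · rintro ⟨l, hl, rfl⟩
        exact ⟨ρ g l, (hg l).2 hl, key g l⟩
      · rintro ⟨l, hl, hx⟩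
        obtain ⟨l', rfl⟩ := (ρ g).surjective l
        refine ⟨l', (hg l').1 hl, ?_⟩
        rw [key] at hx
        exact mul_left_cancel (mul_right_cancel hx)
    have hQ : QS (L.map ι) := by
      refine ⟨?_, ?_, ?_⟩
      · rw [← Subgroup.map_commutator, hL.perfect]
      · intro h0
        exact hL.ne ((Subgroup.map_eq_bot_iff_of_injective _ hι).1 h0)
      · intro N hN hn
        have hNr : N ≤ ι.range := hN.trans (Subgroup.map_le_range _ _)
        have hNe : (N.comap ι).map ι = N := Subgroup.map_comap_eq_self hNr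
        have h1 : N.comap ι ≤ L := by
          intro x hx
          obtain ⟨l, hl, e⟩ := hN hx
          rwa [← hι e]
        have h2 : L ≤ Subgroup.normalizer ((N.comap ι : Subgroup Y) : Set Y) := by
          intro l hl
          have h3 := hn ⟨l, hl, rfl⟩
          rw [Subgroup.mem_normalizer_iff] at h3 ⊢
          intro x
          rw [Subgroup.mem_comap, Subgroup.mem_comap, map_mul, map_mul, map_inv]
          exact h3 (ι x)
        rcases hL.norm _ h1 h2 with h3 | h3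
        · left
          rw [← hNe, h3]
        · right
          intro x hx
          rw [← hNe] at hx
          obtain ⟨y, hy, rfl⟩ := hx
          rw [Subgroup.mem_centralizer_iff]
          rintro _ ⟨l, hl, rfl⟩
          have h4 := (Subgroup.mem_centralizer_iff.1 (h3 hy)) l hl
          rw [← map_mul, ← map_mul, h4]
    have hnc : ∀ g : G, (∃ l ∈ L, ρ g l ≠ l) → g ∉ Subgroup.centralizer ((L.map ι : Subgroup G) : Set G) := by
      rintro g ⟨l, hl, hne⟩ hg
      apply hne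
      apply hι
      rw [key]
      have h4 := (Subgroup.mem_centralizer_iff.1 hg) (ι l) ⟨l, hl, rfl⟩
      rw [← h4]
      group
    refine h.false_of_component (L := L.map ι) ?_ hQ hc hd (hmap c hcL) (hmap d hdL) (hnc c ⟨l, hl, hcl⟩)
      (hnc d ⟨m, hm, hdm⟩)
    -- `L` would be normal in `S`
    intro hN
    have hsub : (L.map ι) ≤ S := by
      rw [← hr]
      exact Subgroup.map_le_range _ _
    have hnn : ((L.map ι).subgroupOf S).Normal := by
      rw [Subgroup.normal_subgroupOf_iff_le_normalizer hsub, hN]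
      exact le_top
    have hsimp := h.simple
    rcases hnn.eq_bot_or_eq_top with h1 | h1
    · rw [Subgroup.subgroupOf_eq_bot] at h1
      apply hQ.ne
      rw [eq_bot_iff]
      intro x hx
      exact (disjoint_iff_inf_le.mp h1) ⟨hx, hsub hx⟩
    · rw [Subgroup.subgroupOf_eq_top] at h1
      apply hLt
      rw [eq_top_iff]
      intro y _
      have h2 : ι y ∈ S := by rw [← hr]; exact ⟨y, rfl⟩
      obtain ⟨l, hl, e⟩ := h1 h2
      rwa [← hι e]
  · rintro _ ⟨c, hc, rfl⟩ _ ⟨d, hd, rfl⟩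
    have h1 := (h.pair c hc d hd).map ρ
    rw [MonoidHom.map_closure, Set.image_pair] at h1
    exact h1
  · rintro H ⟨y, hy⟩
    have hH : H.comap ρ ≠ ⊤ := by
      intro h1
      apply hy
      rw [← hρι]
      have h2 : ι y ∈ H.comap ρ := by rw [h1]; exact Subgroup.mem_top _
      exact h2
    set R := (Cfsg.pCore p ↥(H.comap ρ)).map (ρ.comp (H.comap ρ).subtype) with hR
    have hOn : (pCore p ↥(H.comap ρ)).Normal := Lib.Cores.pCore_normal p
    have hOp : IsPGroup p (pCore p ↥(H.comap ρ)) := Lib.Cores.pCore_isPGroup p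
    have hnorm : ∀ g : G, ρ g ∈ H → ∀ r ∈ R, ρ g * r * (ρ g)⁻¹ ∈ R := by
      rintro g hg _ ⟨r, hr, rfl⟩
      refine ⟨⟨g, hg⟩ * r * ⟨g, hg⟩⁻¹, hOn.conj_mem r hr _, ?_⟩
      simp only [map_mul, map_inv, MonoidHom.comp_apply]
      rfl
    refine ⟨R, hOp.map _, ?_, ?_, ?_, ?_⟩
    · intro z hz r hr'
      have := hnorm (ι z) (by rw [hρι]; exact hz) r hr'
      rwa [hρι] at this
    · rintro _ ⟨c, hc, rfl⟩ hcH r hr'
      exact hnorm c hcH r hr'
    · rintro _ ⟨c, hc, rfl⟩ hcH r hr'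
      exact hnorm c hcH r hr'
    · rintro _ ⟨c, hc, rfl⟩ hcH _ ⟨d, hd, rfl⟩ hdH
      have h1 := h.local_core hH hc hd (show c ∈ H.comap ρ from hcH) (show d ∈ H.comap ρ from hdH)
      refine ⟨_, h1, ?_⟩
      simp only [map_mul, map_inv, MonoidHom.comp_apply]
      rfl

end Cfsg.Agent.H866.D4Wf
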