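import Cfsg.Agent.H866.D4Wf.Coset
import Cfsg.Agent.H28.FamFour
import Cfsg.Agent.H720.TwFr
import Cfsg.Agent.H65.Disp.Rgd
import Cfsg.Agent.H35.Poin
import Cfsg.Agent.H115.HC.TwDFour
import Cfsg.Agent.H27.Exc.Inst
import Cfsg.Agent.H65.Disp.Twist
import Cfsg.Agent.H866.D4Wf.Base

/-!
# S3826: the automorphisms of order three of `³D₄(q)` (helper866)
-/

set_option autoImplicit false
set_option linter.unusedSectionVars false
set_option maxHeartbeats 400000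

namespace Cfsg.Agent.H866.D4Wf.Frame

open CoxeterSystem Cfsg.Agent.ChevalleyStructure.CoxeterGeom Cfsg.Agent.Tits.Roots Cfsg.Agent.Tits.Core
  Cfsg.Agent.Tits.Exchange Cfsg.Agent.Nodes.Reps Cfsg.Agent.Nodes.BNOf Cfsg.Agent.Nodes.StabComb
  Cfsg.Agent.Nodes.Bruhat Cfsg.Agent.Nodes.OppDec Cfsg.Agent.Nodes.LeviDec Cfsg.Agent.Nodes.RGDTwGen
  Cfsg.Agent.Nodes.RGDChev Cfsg.Agent.Nodes.RGDFold Cfsg.Agent.Nodes.RGDFoldSL
open Cfsg.Agent.KFacts.RgdOpp Cfsg.Agent.KFacts.RgdAut Cfsg.Agent.KFacts.RgdDiag Cfsg.Agent.KFacts.RgdRigid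
  Cfsg.Agent.KFacts.RgdField Cfsg.Agent.KFacts.RgdTau Cfsg.Agent.KFacts.RgdNodes
open Cfsg.Lie Cfsg.Agent.ChevalleyStructure Cfsg.Agent.ChevalleyStructure.Elts
open Cfsg.Agent.KFacts.TwDFour.Out
open Cfsg.Agent.Nodes.RGDTwD4 Cfsg.Agent.Nodes.RGDTwNode.D4
open Cfsg.Agent.CpAut.RgdFix Cfsg.Agent.CpAut.RgdConj Cfsg.Agent.CpAut.RgdTwStd Cfsg.Agent.CpAut.RgdTwD4
open Cfsg.Agent.BpExc.TowChev (LocFin locFin_of_isAlgebraic)
open Cfsg.Agent.BpExc.FamField (frb frb_apply)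

open Cfsg.Agent.H28.FamFour (em em_injective)

variable {K : Type} [Field K] [Fintype K] {q : ℕ} (hq : IsPrimePow q) (hK : Fintype.card K = q ^ 3)
  {φ : K →+* K} (hφ : ∀ x, φ x = x ^ q)

/-- the Coxeter system -/
abbrev cs : CoxeterSystem CoxeterMatrix.G₂ CoxeterMatrix.G₂.Group := CoxeterMatrix.G₂.toCoxeterSystem

include hK hφ in
theorem eq_one_of_center {z : ↥(twistedD4 K q)} (hz : ∀ g, z * g = g * z) : z = 1 := by
  obtain ⟨r, hr⟩ := CharP.exists K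
  have : Fact r.Prime := ⟨CharP.char_is_prime K r⟩
  obtain ⟨f⟩ := Cfsg.Agent.BpExc.RowsUntw.exists_emb r K
  apply em_injective (q := q) f
  rw [map_one]
  apply Cfsg.Agent.H28.FamFour.eq_one_of_comm hφ hK f
  intro g
  rw [← map_mul, ← map_mul, hz]

include hq hK hφ in
/-- Every automorphism is inner times a field automorphism. -/
theorem exists_conj_st (x : MulAut ↥(twistedD4 K q)) : ∃ (b : ↥(twistedD4 K q)) (τ : K ≃+* K),
    x = MulAut.conj b * st q τ ∧ ∀ m : ℕ, x ^ m = 1 → τ ^ m = 1 := by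
  obtain ⟨r, hr⟩ := CharP.exists K
  have : Fact r.Prime := ⟨CharP.char_is_prime K r⟩
  obtain ⟨n, hn0, hn⟩ := H27.Exc.exists_pow (r := r) three_pos hq hK
  obtain ⟨f⟩ := Cfsg.Agent.BpExc.RowsUntw.exists_emb r K
  have hk : LocFin (AlgebraicClosure (ZMod r)) := locFin_of_isAlgebraic r _
  obtain ⟨a, τ, y, S, hy, hxy⟩ := Cfsg.Agent.H28.FamFour.exists_lift (Φ := frb (AlgebraicClosure (ZMod r)) r n) hφ hK cs r f
    hq.one_lt (fun a => IsAlgClosed.exists_pow_nat_eq (f a) two_pos) (fun a => by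
      rw [frb_apply, hφ, map_pow, hn]) x
  have hy' : (Cfsg.Agent.BpExc.FamTw.Gr.gr hD4 Cfsg.Agent.ChevalleyStructure.GraphSymm.symmD4a *
      Cfsg.Agent.CpAut.RgdUntw.fld chevD4 (frb (AlgebraicClosure (ZMod r)) r n) :
        MulAut ↥(chevD4.group (AlgebraicClosure (ZMod r)))) y = y := hy
  obtain ⟨b, hb⟩ := H720.TwFr.desc4 f r (H27.Exc.twistedD4_le_group q) hk hn0 hn hK (y := y) hy'
  refine ⟨b, τ, ?_, fun m hm => Cfsg.Agent.H28.FamFour.tau_pow_eq_one hφ hK cs r S hm⟩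
  ext1 g
  apply em_injective (q := q) f
  rw [hxy, MulAut.mul_apply, MulAut.conj_apply, map_mul, map_mul, map_inv]
  have hb' : em q f b = y := hb
  rw [hb']

end Cfsg.Agent.H866.D4Wf.Frame

/-!
# S3826: normal forms of the automorphisms of order three of `³D₄(q)` (helper866)

* `norm_T` : `q = 1 mod 3`: conjugate to `conj t * st q τ`, `t ∈ T`;
* `norm_L` : `q = 2 mod 3`: conjugate to `conj l * st q τ`, `l` in one of the subgroups `SL₂` of the nodes.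
-/

set_option autoImplicit false
set_option linter.unusedSectionVars false
set_option maxHeartbeats 400000

namespace Cfsg.Agent.H866.D4Wf.Frame

open CoxeterSystem Cfsg.Agent.ChevalleyStructure.CoxeterGeom Cfsg.Agent.Tits.Roots Cfsg.Agent.Tits.Core
  Cfsg.Agent.Tits.Exchange Cfsg.Agent.Nodes.Reps Cfsg.Agent.Nodes.BNOf Cfsg.Agent.Nodes.StabComb
  Cfsg.Agent.Nodes.Bruhat Cfsg.Agent.Nodes.OppDec Cfsg.Agent.Nodes.LeviDec Cfsg.Agent.Nodes.RGDTwGen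
  Cfsg.Agent.Nodes.RGDChev Cfsg.Agent.Nodes.RGDFold Cfsg.Agent.Nodes.RGDFoldSL
open Cfsg.Agent.KFacts.RgdOpp Cfsg.Agent.KFacts.RgdAut Cfsg.Agent.KFacts.RgdDiag Cfsg.Agent.KFacts.RgdRigid
  Cfsg.Agent.KFacts.RgdField Cfsg.Agent.KFacts.RgdTau Cfsg.Agent.KFacts.RgdNodes
open Cfsg.Lie Cfsg.Agent.ChevalleyStructure Cfsg.Agent.ChevalleyStructure.Elts
open Cfsg.Agent.ChevalleyStructure.SL2Hom (up lo mem_closure_SL2)
open Cfsg.Agent.KFacts.TwDFour.Out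
open Cfsg.Agent.Nodes.RGDTwD4 Cfsg.Agent.Nodes.RGDTwNode.D4
open Cfsg.Agent.CpAut.RgdFix Cfsg.Agent.CpAut.RgdConj Cfsg.Agent.CpAut.RgdTwStd Cfsg.Agent.CpAut.RgdTwD4
open Cfsg.Agent.H65.Disp.Rgd (mem_PJ_perm)
open Cfsg.Agent.H28.FamFour (st_mul st_one)

variable {K : Type} [Field K] [Fintype K] {q : ℕ} (hq : IsPrimePow q) (hK : Fintype.card K = q ^ 3)
  {φ : K →+* K} (hφ : ∀ x, φ x = x ^ q)

include hφ hK

theorem GG_top : GG cs isCartan (T K q) (X φ q) = ⊤ := GG_eq_top (T := T K q) (G1_eq_top cs hK hφ)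

theorem rgd' (r : ℕ) [Fact r.Prime] [CharP K r] : RGD cs isCartan r (T K q) (n hφ) (X φ q) :=
  Cfsg.Agent.Nodes.RGDTwD4.rgd cs hK hφ r

omit hK in
include hK in
theorem diag_st (τ : K ≃+* K) : Diag (T K q) (X φ q) (st q τ) 1 := by
  obtain ⟨r, hr⟩ := CharP.exists K
  have : Fact r.Prime := ⟨CharP.char_is_prime K r⟩
  exact (ntau_st hφ hK τ cs r).diag

theorem fixU_st (τ : K ≃+* K) : Fix (st q τ) (RGD.Sup (X φ q) (RGD.Pos cs isCartan)) := by
  obtain ⟨r, hr⟩ := CharP.exists K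
  have : Fact r.Prime := ⟨CharP.char_is_prime K r⟩
  have : Finite CoxeterMatrix.G₂.Group := finiteW cs
  exact fix_Sup fun x hx => fix_X (rgd' hK hφ r) (diag_st hK hφ τ) hx.1

theorem fixX_st (τ : K ≃+* K) {x : Fin 2 → ℤ} (hx : IsRoot cs isCartan x) : Fix (st q τ) (X φ q x) := by
  obtain ⟨r, hr⟩ := CharP.exists K
  have : Fact r.Prime := ⟨CharP.char_is_prime K r⟩
  have : Finite CoxeterMatrix.G₂.Group := finiteW cs
  exact fix_X (rgd' hK hφ r) (diag_st hK hφ τ) hx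

theorem fixB_st (τ : K ≃+* K) : Fix (st q τ) (RGD.B cs isCartan (T K q) (X φ q)) := by
  obtain ⟨r, hr⟩ := CharP.exists K
  have : Fact r.Prime := ⟨CharP.char_is_prime K r⟩
  have : Finite CoxeterMatrix.G₂.Group := finiteW cs
  exact fix_B (rgd' hK hφ r) (GG_top hK hφ) (fixU_st hK hφ τ)

theorem fixP_st (τ : K ≃+* K) (J : Set (Fin 2)) : Fix (st q τ) (PJ cs isCartan (T K q) (X φ q) J) := by
  obtain ⟨r, hr⟩ := CharP.exists K
  have : Fact r.Prime := ⟨CharP.char_is_prime K r⟩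
  have : Finite CoxeterMatrix.G₂.Group := finiteW cs
  intro y
  have h1 := mem_PJ_perm (rgd' hK hφ r) (diag_st hK hφ τ) (fixB_st hK hφ τ) J y
  have e : ((1 : Equiv.Perm (Fin 2)) '' J) = J := by simp
  rwa [e] at h1

theorem st_lo (τ : K ≃+* K) (i : Fin 2) (a : KD φ i) :
    st q τ (PhiD hφ hK i (lo a)) = PhiD hφ hK i (lo (rs hφ τ i a)) :=
  apply_lo (Φ := PhiD hφ hK) (PhiD_wS hφ hK) (st_up hφ hK τ) (st_n hφ τ) i a

theorem st_Phi (τ : K ≃+* K) (i : Fin 2) (A : Matrix.SpecialLinearGroup (Fin 2) (KD φ i)) :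
    st q τ (PhiD hφ hK i A) =
      PhiD hφ hK i (Matrix.SpecialLinearGroup.map ((rs hφ τ i : KD φ i ≃+* KD φ i) : KD φ i →+* KD φ i) A) := by
  have h3 : Subgroup.closure (Set.range (up (F := KD φ i)) ∪ Set.range (lo (F := KD φ i))) ≤
      ((st q τ).toMonoidHom.comp (PhiD hφ hK i)).eqLocus ((PhiD hφ hK i).comp
        (Matrix.SpecialLinearGroup.map ((rs hφ τ i : KD φ i ≃+* KD φ i) : KD φ i →+* KD φ i))) := by
    rw [Subgroup.closure_le]
    rintro _ (⟨a, rfl⟩ | ⟨a, rfl⟩)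
    · show st q τ (PhiD hφ hK i (up a)) = PhiD hφ hK i (Matrix.SpecialLinearGroup.map _ (up a))
      rw [st_up]
      congr 1
      apply Subtype.ext
      ext s t
      show _ = ((rs hφ τ i ((up a).1 s t) : KD φ i) : K)
      fin_cases s <;> fin_cases t <;> simp [up]
    · show st q τ (PhiD hφ hK i (lo a)) = PhiD hφ hK i (Matrix.SpecialLinearGroup.map _ (lo a))
      rw [st_lo hK hφ]
      congr 1
      apply Subtype.ext
      ext s t
      show _ = ((rs hφ τ i ((lo a).1 s t) : KD φ i) : K)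
      fin_cases s <;> fin_cases t <;> simp [lo]
  exact h3 (mem_closure_SL2 A)

theorem fixL_st (τ : K ≃+* K) (i : Fin 2) : Fix (st q τ) (PhiD hφ hK i).range := by
  have key : ∀ σ : K ≃+* K, ∀ y ∈ (PhiD hφ hK i).range, st q σ y ∈ (PhiD hφ hK i).range := by
    rintro σ _ ⟨A, rfl⟩
    exact ⟨_, (st_Phi hK hφ σ i A).symm⟩
  intro y
  refine ⟨fun hy => ?_, key τ y⟩
  have h1 := key τ⁻¹ _ hy
  rw [← st_mul, inv_mul_cancel, st_one] at h1
  exact h1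

theorem mem_negX (i : Fin 2) (g : ↥(twistedD4 K q)) : g ∈ X φ q (-sr i) ↔ ∃ a, g = PhiD hφ hK i (lo a) := by
  obtain ⟨r, hr⟩ := CharP.exists K
  have : Fact r.Prime := ⟨CharP.char_is_prime K r⟩
  exact Cfsg.Agent.CpAut.RgdTwStd.mem_neg (rgd' hK hφ r) (mem_X hφ hK) (PhiD_wS hφ hK) i g

/-- the torus normalises the `SL₂` of the nodes -/
theorem T_le_normalizer (i : Fin 2) :
    T K q ≤ Subgroup.normalizer ((PhiD hφ hK i).range : Set ↥(twistedD4 K q)) := by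
  obtain ⟨r, hr⟩ := CharP.exists K
  have : Fact r.Prime := ⟨CharP.char_is_prime K r⟩
  have R := rgd' hK hφ r
  have key : ∀ t ∈ T K q, ∀ y ∈ (PhiD hφ hK i).range, t * y * t⁻¹ ∈ (PhiD hφ hK i).range := by
    rintro t ht _ ⟨A, rfl⟩
    have h3 : Subgroup.closure (Set.range (up (F := KD φ i)) ∪ Set.range (lo (F := KD φ i))) ≤
        ((PhiD hφ hK i).range).comap ((MulAut.conj t).toMonoidHom.comp (PhiD hφ hK i)) := by
      rw [Subgroup.closure_le]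
      rintro _ (⟨a, rfl⟩ | ⟨a, rfl⟩)
      · show t * PhiD hφ hK i (up a) * t⁻¹ ∈ (PhiD hφ hK i).range
        have h1 : t * PhiD hφ hK i (up a) * t⁻¹ ∈ X φ q (sr i) := by
          rw [← R.tor _ (isRoot_sr cs isCartan i) t ht]
          exact conj_mem_cj.2 ((mem_X hφ hK i _).2 ⟨a, rfl⟩)
        obtain ⟨b, hb⟩ := (mem_X hφ hK i _).1 h1
        exact ⟨_, hb.symm⟩
      · show t * PhiD hφ hK i (lo a) * t⁻¹ ∈ (PhiD hφ hK i).range
        have h1 : t * PhiD hφ hK i (lo a) * t⁻¹ ∈ X φ q (-sr i) := by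
          rw [← R.tor _ (isRoot_sr cs isCartan i).neg t ht]
          exact conj_mem_cj.2 ((mem_negX hK hφ i _).2 ⟨a, rfl⟩)
        obtain ⟨b, hb⟩ := (mem_negX hK hφ i _).1 h1
        exact ⟨_, hb.symm⟩
    exact h3 (mem_closure_SL2 A)
  intro t ht
  rw [Subgroup.mem_normalizer_iff]
  intro y
  refine ⟨key t ht y, fun hy => ?_⟩
  have h1 := key t⁻¹ (inv_mem ht) _ hy
  have e : t⁻¹ * (t * y * t⁻¹) * t⁻¹⁻¹ = y := by group
  rwa [e] at h1

theorem st_three {τ : K ≃+* K} (hτ : τ ^ 3 = 1) (y : ↥(twistedD4 K q)) : st q τ (st q τ (st q τ y)) = y := by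
  rw [← st_mul, ← st_mul]
  have e : τ * τ * τ = 1 := by rw [← hτ]; rfl
  rw [e, st_one]

/-- the norm of an element of order three -/
theorem norm_eq_one {b : ↥(twistedD4 K q)} {τ : K ≃+* K} (hτ : τ ^ 3 = 1)
    (hx : (MulAut.conj b * st q τ) ^ 3 = 1) : b * st q τ b * st q τ (st q τ b) = 1 := by
  have h1 : MulAut.conj (b * st q τ b * st q τ (st q τ b)) * (st q τ * st q τ * st q τ) = 1 := by
    rw [← hx]
    ext y
    simp only [pow_succ, pow_zero, one_mul, MulAut.mul_apply, MulAut.conj_apply, map_mul, map_inv, mul_inv_rev,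
      mul_assoc]
  have h2 : st q τ * st q τ * st q τ = 1 := by
    ext1 y
    exact st_three hK hφ hτ y
  rw [h2, mul_one] at h1
  apply eq_one_of_center hK hφ
  intro g
  have h3 : MulAut.conj (b * st q τ b * st q τ (st q τ b)) g = g := by rw [h1]; rfl
  rw [MulAut.conj_apply] at h3
  exact mul_inv_eq_iff_eq_mul.1 h3

theorem conj_st_conj (g z : ↥(twistedD4 K q)) (τ : K ≃+* K) :
    (MulAut.conj g)⁻¹ * (MulAut.conj z * st q τ) * MulAut.conj g = MulAut.conj (g⁻¹ * z * st q τ g) * st q τ := by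
  ext1 y
  simp only [MulAut.mul_apply, MulAut.conj_apply, map_mul, map_inv, mul_inv_rev, inv_inv, mul_assoc]

/-- in a parabolic subgroup -/
theorem norm_P (hq : IsPrimePow q) {x : MulAut ↥(twistedD4 K q)} (hx : x ^ 3 = 1) :
    ∃ (g z : ↥(twistedD4 K q)) (τ : K ≃+* K) (i : Fin 2), z ∈ PJ cs isCartan (T K q) (X φ q) {i} ∧ τ ^ 3 = 1 ∧
      (MulAut.conj g)⁻¹ * x * MulAut.conj g = MulAut.conj z * st q τ := by
  obtain ⟨r, hr⟩ := CharP.exists K
  have : Fact r.Prime := ⟨CharP.char_is_prime K r⟩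
  have : Finite CoxeterMatrix.G₂.Group := finiteW cs
  obtain ⟨b, τ, rfl, hτ⟩ := exists_conj_st hq hK hφ x
  obtain ⟨g, z, i, hz, hg⟩ := exists_par (rgd' hK hφ r) (GG_top hK hφ) Cfsg.Agent.H65.Disp.Twist.ty_D4
    (fixU_st hK hφ τ) (diag_st hK hφ τ) hx
  have hi : ∃ j : Fin 2, ({k | k ≠ i} : Set (Fin 2)) = {j} := by
    fin_cases i
    · refine ⟨1, ?_⟩
      ext k
      fin_cases k <;> simp
    · refine ⟨0, ?_⟩
      ext k
      fin_cases k <;> simp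
  obtain ⟨j, hj⟩ := hi
  rw [hj] at hz
  exact ⟨g, z, τ, j, hz, hτ 3 hx, hg⟩

theorem conj_pow_three {g x : MulAut ↥(twistedD4 K q)} (hx : x ^ 3 = 1) : (g⁻¹ * x * g) ^ 3 = 1 := by
  have e : (g⁻¹ * x * g) ^ 3 = g⁻¹ * x ^ 3 * g := by
    simp only [pow_succ, pow_zero, one_mul]
    group
  rw [e, hx, mul_one, inv_mul_cancel]

/-- descent to a subgroup of index prime to three -/
theorem norm_sub {P L : Subgroup ↥(twistedD4 K q)} {z : ↥(twistedD4 K q)} {τ : K ≃+* K} (hP : Fix (st q τ) P)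
    (hL : Fix (st q τ) L) (hidx : ¬ 3 ∣ L.relIndex P) (hz : z ∈ P) (hτ : τ ^ 3 = 1)
    (hx : (MulAut.conj z * st q τ) ^ 3 = 1) :
    ∃ g ∈ P, ∃ l ∈ L, (MulAut.conj g)⁻¹ * (MulAut.conj z * st q τ) * MulAut.conj g = MulAut.conj l * st q τ := by
  obtain ⟨g, hg, hl⟩ := exists_coset_fix hP hL hidx hz (st_three hK hφ hτ) (norm_eq_one hK hφ hτ hx)
  exact ⟨g, hg, _, hl, conj_st_conj hK hφ g z τ⟩

theorem card_X0 (hq : IsPrimePow q) : Nat.card ↥(X φ q (sr 0)) = q :=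
  H115.HC.TwDFour.card_X0 hφ (D4Fixed.twisted_le_fix hK hφ) hq.one_lt hK

theorem card_X1 : Nat.card ↥(X φ q (sr 1)) = q ^ 3 := by
  rw [Cfsg.Agent.KFacts.TwESix.OutTwo.card_of_coord (coordD hφ hK 1)]
  have h2 : Nat.card (KD φ 1) = Nat.card K := by
    rw [F3_eq_top hK hφ]
    exact Nat.card_congr Subfield.topEquiv.toEquiv
  rw [h2, Nat.card_eq_fintype_card, hK]

theorem card_T (hq : IsPrimePow q) : Nat.card ↥(T K q) = (q - 1) ^ 2 * (q ^ 2 + q + 1) := by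
  rw [← Cfsg.Agent.S1106.result (K := K) hq hK]
  exact Nat.card_congr (Subgroup.subgroupOfEquivOfLe inf_le_right).toEquiv

/-- `q = 1 mod 3` -/
theorem norm_T (hq : IsPrimePow q) (h3 : q % 3 = 1) {x : MulAut ↥(twistedD4 K q)} (hx : x ^ 3 = 1) :
    ∃ (g t : ↥(twistedD4 K q)) (τ : K ≃+* K), t ∈ T K q ∧ τ ^ 3 = 1 ∧
      (MulAut.conj g)⁻¹ * x * MulAut.conj g = MulAut.conj t * st q τ := by
  obtain ⟨r, hr⟩ := CharP.exists K
  have : Fact r.Prime := ⟨CharP.char_is_prime K r⟩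
  have : Finite CoxeterMatrix.G₂.Group := finiteW cs
  obtain ⟨n, hn0, hn⟩ := H27.Exc.exists_pow (r := r) three_pos hq hK
  have hr3 : r ≠ 3 := by
    rintro rfl
    have : 3 ∣ q := by rw [hn]; exact dvd_pow_self 3 hn0.ne'
    omega
  obtain ⟨g, z, τ, i, hz, hτ, hg⟩ := norm_P hK hφ hq hx
  have hz3 : (MulAut.conj z * st q τ) ^ 3 = 1 := by rw [← hg]; exact conj_pow_three hK hφ hx
  have hidx : ¬ 3 ∣ (T K q).relIndex (PJ cs isCartan (T K q) (X φ q) {i}) := by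
    apply not_dvd_relIndex_T (rgd' hK hφ r) hr3
    have hi : i = 0 ∨ i = 1 := by fin_cases i <;> simp
    rcases hi with rfl | rfl
    · rw [card_X0 hK hφ hq]; omega
    · rw [card_X1 hK hφ]
      have : q ^ 3 % 3 = 1 := by rw [Nat.pow_mod, h3]
      omega
  obtain ⟨g', -, l, hl, hg'⟩ := norm_sub hK hφ (fixP_st hK hφ τ _) (st_T τ) hidx hz hτ hz3
  refine ⟨g * g', l, τ, hl, hτ, ?_⟩
  rw [← hg', ← hg, map_mul, mul_inv_rev]
  simp only [mul_assoc]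

/-- `q = 2 mod 3` -/
theorem norm_L (hq : IsPrimePow q) (h3 : q % 3 = 2) {x : MulAut ↥(twistedD4 K q)} (hx : x ^ 3 = 1) :
    ∃ (g l : ↥(twistedD4 K q)) (τ : K ≃+* K) (i : Fin 2), l ∈ (PhiD hφ hK i).range ∧ τ ^ 3 = 1 ∧
      (MulAut.conj g)⁻¹ * x * MulAut.conj g = MulAut.conj l * st q τ := by
  obtain ⟨r, hr⟩ := CharP.exists K
  have : Fact r.Prime := ⟨CharP.char_is_prime K r⟩
  have : Finite CoxeterMatrix.G₂.Group := finiteW cs
  obtain ⟨n, hn0, hn⟩ := H27.Exc.exists_pow (r := r) three_pos hq hK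
  have hr3 : r ≠ 3 := by
    rintro rfl
    have : 3 ∣ q := by rw [hn]; exact dvd_pow_self 3 hn0.ne'
    omega
  obtain ⟨g, z, τ, i, hz, hτ, hg⟩ := norm_P hK hφ hq hx
  have hz3 : (MulAut.conj z * st q τ) ^ 3 = 1 := by rw [← hg]; exact conj_pow_three hK hφ hx
  have hidx : ¬ 3 ∣ ((PhiD hφ hK i).range).relIndex (PJ cs isCartan (T K q) (X φ q) {i}) := by
    intro h4
    have h5 := h4.trans (relIndex_dvd_B (rgd' hK hφ r) (i := i) (L := (PhiD hφ hK i).range) (fun y hy => by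
      obtain ⟨a, rfl⟩ := (mem_X hφ hK i y).1 hy
      exact ⟨_, rfl⟩) (fun y hy => by
      obtain ⟨a, rfl⟩ := (mem_negX hK hφ i y).1 hy
      exact ⟨_, rfl⟩) (T_le_normalizer hK hφ i))
    rw [H35.Poin.card_B' (rgd' hK hφ r), card_T hK hφ hq] at h5
    rcases (Nat.Prime.dvd_mul Nat.prime_three).1 h5 with h6 | h6
    · exact not_dvd_card_U (rgd' hK hφ r) hr3 h6
    · rcases (Nat.Prime.dvd_mul Nat.prime_three).1 h6 with h7 | h7
      · have := Nat.prime_three.dvd_of_dvd_pow h7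
        omega
      · have h8 : (q ^ 2 + q + 1) % 3 = 1 := by
          rw [Nat.add_mod, Nat.add_mod (q ^ 2), Nat.pow_mod, h3]
        omega
  obtain ⟨g', -, l, hl, hg'⟩ := norm_sub hK hφ (fixP_st hK hφ τ _) (fixL_st hK hφ τ i) hidx hz hτ hz3
  refine ⟨g * g', l, τ, i, hl, hτ, ?_⟩
  rw [← hg', ← hg, map_mul, mul_inv_rev]
  simp only [mul_assoc]

end Cfsg.Agent.H866.D4Wf.Frame

/-!
# S3826: `³D₄(q)`: field automorphisms, root groups, kernels (helper866)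
-/

set_option autoImplicit false
set_option linter.unusedSectionVars false
set_option maxHeartbeats 400000

namespace Cfsg.Agent.H866.D4Wf.Frame

open CoxeterSystem Cfsg.Agent.ChevalleyStructure.CoxeterGeom Cfsg.Agent.Tits.Roots Cfsg.Agent.Tits.Core
  Cfsg.Agent.Tits.Exchange Cfsg.Agent.Nodes.Reps Cfsg.Agent.Nodes.BNOf Cfsg.Agent.Nodes.StabComb
  Cfsg.Agent.Nodes.Bruhat Cfsg.Agent.Nodes.OppDec Cfsg.Agent.Nodes.LeviDec Cfsg.Agent.Nodes.RGDTwGen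
  Cfsg.Agent.Nodes.RGDChev Cfsg.Agent.Nodes.RGDFold Cfsg.Agent.Nodes.RGDFoldSL
open Cfsg.Agent.KFacts.RgdOpp Cfsg.Agent.KFacts.RgdAut Cfsg.Agent.KFacts.RgdDiag Cfsg.Agent.KFacts.RgdRigid
  Cfsg.Agent.KFacts.RgdField Cfsg.Agent.KFacts.RgdTau Cfsg.Agent.KFacts.RgdNodes
open Cfsg.Lie Cfsg.Agent.ChevalleyStructure Cfsg.Agent.ChevalleyStructure.Elts
open Cfsg.Agent.ChevalleyStructure.SL2Hom (up lo mem_closure_SL2)
open Cfsg.Agent.KFacts.TwDFour.Out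
open Cfsg.Agent.Nodes.RGDTwD4 Cfsg.Agent.Nodes.RGDTwNode.D4
open Cfsg.Agent.CpAut.RgdFix Cfsg.Agent.CpAut.RgdConj Cfsg.Agent.CpAut.RgdTwStd Cfsg.Agent.CpAut.RgdTwD4
open Cfsg.Agent.H65.Disp.Rgd (mem_PJ_perm)
open Cfsg.Agent.H28.FamFour (st_mul st_one)
open Cfsg.Agent.BpExc.FamField (exists_pow_eq forall_pow_iff)
open scoped commutatorElement

variable {K : Type} [Field K] [Fintype K] {q : ℕ} (hK : Fintype.card K = q ^ 3)
  {φ : K →+* K} (hφ : ∀ x, φ x = x ^ q)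

/-! ### field automorphisms -/

theorem tau_comm (τ τ' : K ≃+* K) : τ * τ' = τ' * τ := by
  obtain ⟨r, hr⟩ := CharP.exists K
  have : Fact r.Prime := ⟨CharP.char_is_prime K r⟩
  obtain ⟨i, hi⟩ := exists_pow_eq r τ
  obtain ⟨j, hj⟩ := exists_pow_eq r τ'
  ext a
  show τ (τ' a) = τ' (τ a)
  rw [hi, hj, hj, hi, ← pow_mul, ← pow_mul, mul_comm]

include hK hφ in
theorem tau_fix (hq : IsPrimePow q) {τ : K ≃+* K} (hτ : τ ^ 3 = 1) {a : K} (ha : φ a = a) : τ a = a := by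
  obtain ⟨r, hr⟩ := CharP.exists K
  have : Fact r.Prime := ⟨CharP.char_is_prime K r⟩
  obtain ⟨n, hn0, hn⟩ := H27.Exc.exists_pow (r := r) three_pos hq hK
  obtain ⟨j, hj⟩ := exists_pow_eq r τ
  have hcard : Nat.card K = r ^ (n * 3) := by rw [Nat.card_eq_fintype_card, hK, hn, pow_mul]
  have h1 : ∀ b : K, b ^ r ^ (j * 3) = b := by
    intro b
    have h2 := Cfsg.Agent.BpExc.FamField.pow_apply_of hj 3 b
    rw [hτ] at h2
    exact h2.symm
  have h2 : n ∣ j := by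
    have h3 := (forall_pow_iff (F := K) r hcard (j * 3)).1 h1
    exact Nat.dvd_of_mul_dvd_mul_right three_pos h3
  obtain ⟨m, rfl⟩ := h2
  have h3 : ∀ m : ℕ, a ^ r ^ (n * m) = a := by
    intro m
    induction m with
    | zero => rw [mul_zero, pow_zero, pow_one]
    | succ m ih =>
      rw [mul_add, mul_one, pow_add, pow_mul, ih, ← hn, ← hφ, ha]
  rw [hj, h3]

include hK hφ in
theorem rs_zero (hq : IsPrimePow q) {τ : K ≃+* K} (hτ : τ ^ 3 = 1) (a : KD φ 0) : rs hφ τ 0 a = a := by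
  apply Subtype.ext
  show τ (a : K) = a
  exact tau_fix hK hφ hq hτ (mem_Fx.1 a.2)

/-- the `q`-power automorphism -/
noncomputable def phe (_hφ : ∀ x, φ x = x ^ q) : K ≃+* K := RingEquiv.ofBijective φ
  ⟨φ.injective, Finite.surjective_of_injective φ.injective⟩

theorem phe_apply (a : K) : phe hφ a = φ a := rfl

include hK in
theorem phe_three : phe hφ ^ 3 = 1 := by
  ext a
  show φ (φ (φ a)) = a
  exact phi_three hφ hK a

include hK in
theorem phe_ne (hq : IsPrimePow q) : ∃ a : K, phe hφ a ≠ a := by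
  by_contra hcon
  push Not at hcon
  apply F1_ne_top hφ hK hq.one_lt
  rw [eq_top_iff]
  intro a _
  rw [mem_Fx]
  exact hcon a

include hK hφ in
/-- the `SL₂` of the long node is fixed -/
theorem st_Phi_zero (hq : IsPrimePow q) {τ : K ≃+* K} (hτ : τ ^ 3 = 1) (A : Matrix.SpecialLinearGroup (Fin 2) (KD φ 0)) :
    st q τ (PhiD hφ hK 0 A) = PhiD hφ hK 0 A := by
  rw [st_Phi hK hφ]
  congr 1
  apply Subtype.ext
  ext s t
  show ((rs hφ τ 0 (A.1 s t) : KD φ 0) : K) = _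
  rw [rs_zero hK hφ hq hτ]

include hK in
/-- the kernel of the rank one homomorphisms -/
theorem ker_Phi (i : Fin 2) {A : Matrix.SpecialLinearGroup (Fin 2) (KD φ i)} (hA : PhiD hφ hK i A = 1) :
    A.1 1 0 = 0 ∧ A.1 0 1 = 0 ∧ A.1 0 0 ^ 2 = 1 := by
  obtain ⟨r, hr⟩ := CharP.exists K
  have : Fact r.Prime := ⟨CharP.char_is_prime K r⟩
  have : Finite CoxeterMatrix.G₂.Group := finiteW cs
  have R := rgd' hK hφ r
  have hup : ∀ a, PhiD hφ hK i (up a) ∈ X φ q (sr i) := fun a => (mem_X hφ hK i _).2 ⟨a, rfl⟩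
  have h10 : A.1 1 0 = 0 := by
    by_contra h0
    rw [Cfsg.Agent.KFacts.TwESix.NodeCoord.eq_of_ne_zero h0, map_mul, map_mul, map_mul, PhiD_wS] at hA
    have hd : -(A.1 1 0)⁻¹ ≠ 0 := neg_ne_zero.2 (inv_ne_zero h0)
    have hT := PhiD_hS hφ hK i _ hd
    have hXB : ∀ a, PhiD hφ hK i (up a) ∈ RGD.B cs isCartan (T K q) (X φ q) := fun a =>
      RGD.X_le_B (isRoot_sr cs isCartan i) (sr_nonneg i) (hup a)
    have hn : n hφ i ∈ RGD.B cs isCartan (T K q) (X φ q) := by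
      have e : n hφ i = (PhiD hφ hK i (hS (-(A.1 1 0)⁻¹)))⁻¹ * ((PhiD hφ hK i (up (A.1 0 0 / A.1 1 0)))⁻¹ *
          (PhiD hφ hK i (up (A.1 0 0 / A.1 1 0)) * (PhiD hφ hK i (hS (-(A.1 1 0)⁻¹)) * n hφ i) *
            PhiD hφ hK i (up (A.1 1 1 / A.1 1 0))) * (PhiD hφ hK i (up (A.1 1 1 / A.1 1 0)))⁻¹) := by group
      rw [e, hA]
      exact mul_mem (inv_mem (RGD.T_le_B hT)) (mul_mem (mul_mem (inv_mem (hXB _)) (one_mem _)) (inv_mem (hXB _)))
    have h1 := cell_one_of_mem (hN := R.nsys) hn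
    have h2 := cell_of_rp (h := isCartan) (X := X φ q) (rp_simple cs R.nsys i)
    have h3 := Cell.unique R h1 h2
    have h4 := cs.length_simple i
    rw [← h3, cs.length_one] at h4
    exact absurd h4 (by norm_num)
  obtain ⟨h0, e⟩ := Cfsg.Agent.KFacts.TwESix.NodeCoord.eq_of_zero h10
  have h1 : PhiD hφ hK i (hS (A.1 0 0)) * PhiD hφ hK i (up (A.1 0 1 / A.1 0 0)) = 1 := by
    rw [← map_mul, ← e, hA]
  have hT := PhiD_hS hφ hK i _ h0
  have h2 : PhiD hφ hK i (up (A.1 0 1 / A.1 0 0)) = 1 := by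
    have h3 := X_inf_T R (isRoot_sr cs isCartan i)
    have h5 : PhiD hφ hK i (up (A.1 0 1 / A.1 0 0)) ∈ T K q := by
      rw [← inv_eq_of_mul_eq_one_right h1]
      exact inv_mem hT
    have h4 : PhiD hφ hK i (up (A.1 0 1 / A.1 0 0)) ∈ X φ q (sr i) ⊓ T K q := ⟨hup _, h5⟩
    rwa [h3, Subgroup.mem_bot] at h4
  have h3 : A.1 0 1 / A.1 0 0 = 0 := by
    by_contra h4
    exact (coordD hφ hK i).ne_one h4 h2
  have h5 : A.1 0 1 = 0 := by
    rcases div_eq_zero_iff.1 h3 with h6 | h6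
    · exact h6
    · exact absurd h6 h0
  rw [h2, mul_one] at h1
  have h6 := chD_hS hφ hK i _ h0
  rw [h1] at h6
  have h7 : chD hφ hK i 1 = 1 := by
    have h8 := (coordD hφ hK i).act 1 (one_mem _) 1
    rw [one_mul, inv_one, mul_one, mul_one] at h8
    exact ((coordD hφ hK i).inj h8).symm
  rw [h7] at h6
  exact ⟨h10, h5, h6.symm⟩

include hK in
theorem ker_Phi_sq (i : Fin 2) {A : Matrix.SpecialLinearGroup (Fin 2) (KD φ i)} (hA : PhiD hφ hK i A = 1) :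
    A * A = 1 := by
  obtain ⟨h1, h2, h3⟩ := ker_Phi hK hφ i hA
  have hd := A.2
  rw [Matrix.det_fin_two, h1, h2, mul_zero, sub_zero] at hd
  have h4 : A.1 1 1 = A.1 0 0 := by
    have h5 : A.1 0 0 ≠ 0 := left_ne_zero_of_mul_eq_one hd
    have h6 : A.1 0 0 * A.1 1 1 = A.1 0 0 * A.1 0 0 := hd.trans (h3.symm.trans (pow_two _))
    exact mul_left_cancel₀ h5 h6
  apply Subtype.ext
  rw [Matrix.SpecialLinearGroup.coe_mul, Matrix.SpecialLinearGroup.coe_one]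
  ext s t
  rw [Matrix.mul_apply, Fin.sum_univ_two]
  fin_cases s <;> fin_cases t
  · simp [h2, ← pow_two, h3]
  · simp [h2]
  · simp [h1]
  · simp [h1, h4, ← pow_two, h3]

include hK in
/-- elements of order three lift to elements of order three -/
theorem exists_lift_three (i : Fin 2) {l : ↥(twistedD4 K q)} (hl : l ∈ (PhiD hφ hK i).range) (hl3 : l ^ 3 = 1) :
    ∃ A : Matrix.SpecialLinearGroup (Fin 2) (KD φ i), PhiD hφ hK i A = l ∧ A ^ 3 = 1 := by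
  obtain ⟨A, rfl⟩ := hl
  rw [← map_pow] at hl3
  have h1 := ker_Phi_sq hK hφ i hl3
  refine ⟨A ^ 4, ?_, ?_⟩
  · rw [map_pow]
    rw [map_pow] at hl3
    rw [pow_succ, hl3, one_mul]
  · have e : (A ^ 4) ^ 3 = (A ^ 3 * A ^ 3) ^ 2 := by
      rw [← pow_add, ← pow_mul, ← pow_mul]
    rw [e, h1, one_pow]

end Cfsg.Agent.H866.D4Wf.Frame

/-!
# S3826: `³D₄(q)`: commuting root groups, the Bruhat kill (helper866)
-/

set_option autoImplicit false
set_option linter.unusedSectionVars false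
set_option maxHeartbeats 400000

namespace Cfsg.Agent.H866.D4Wf.Frame

open CoxeterSystem Cfsg.Agent.ChevalleyStructure.CoxeterGeom Cfsg.Agent.Tits.Roots Cfsg.Agent.Tits.Core
  Cfsg.Agent.Tits.Exchange Cfsg.Agent.Nodes.Reps Cfsg.Agent.Nodes.BNOf Cfsg.Agent.Nodes.StabComb
  Cfsg.Agent.Nodes.Bruhat Cfsg.Agent.Nodes.OppDec Cfsg.Agent.Nodes.LeviDec Cfsg.Agent.Nodes.RGDTwGen
  Cfsg.Agent.Nodes.RGDChev Cfsg.Agent.Nodes.RGDFold Cfsg.Agent.Nodes.RGDFoldSL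
open Cfsg.Agent.KFacts.RgdOpp Cfsg.Agent.KFacts.RgdAut Cfsg.Agent.KFacts.RgdDiag Cfsg.Agent.KFacts.RgdRigid
  Cfsg.Agent.KFacts.RgdField Cfsg.Agent.KFacts.RgdTau Cfsg.Agent.KFacts.RgdNodes
open Cfsg.Lie Cfsg.Agent.ChevalleyStructure Cfsg.Agent.ChevalleyStructure.Elts
open Cfsg.Agent.ChevalleyStructure.SL2Hom (up lo mem_closure_SL2)
open Cfsg.Agent.KFacts.TwDFour.Out
open Cfsg.Agent.Nodes.RGDTwD4 Cfsg.Agent.Nodes.RGDTwNode.D4
open Cfsg.Agent.CpAut.RgdFix Cfsg.Agent.CpAut.RgdConj Cfsg.Agent.CpAut.RgdTwStd Cfsg.Agent.CpAut.RgdTwD4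
open Cfsg.Agent.H65.Disp.Rgd (mem_PJ_perm)
open Cfsg.Agent.H28.FamFour (st_mul st_one)
open scoped commutatorElement

/-! ### roots -/

/-- the roots -/
def rts : List (Fin 2 → ℤ) := [![1, 0], ![0, 1], ![1, 1], ![1, 2], ![1, 3], ![2, 3],
  ![-1, 0], ![0, -1], ![-1, -1], ![-1, -2], ![-1, -3], ![-2, -3]]

theorem root_mem {z : Fin 2 → ℤ} (hz : IsRoot cs isCartan z) : z ∈ rts := by
  obtain ⟨r, hr, rfl⟩ := (Cfsg.Agent.ParSys.Fam.D4.isRoot_iff' z).1 hz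
  have key : ∀ r < chevD4.nroots, V chevD4 Nodes.RGDTwD4.J r ∈ rts := by decide +kernel
  exact key r hr

theorem isRoot_of_mem {z : Fin 2 → ℤ} (hz : z ∈ rts) : IsRoot cs isCartan z := by
  have key : ∀ z ∈ rts, ∃ r < chevD4.nroots, V chevD4 Nodes.RGDTwD4.J r = z := by decide +kernel
  exact (Cfsg.Agent.ParSys.Fam.D4.isRoot_iff' z).2 (key z hz)

theorem sr0_eq : (sr 0 : Fin 2 → ℤ) = ![1, 0] := by decide
theorem sr1_eq : (sr 1 : Fin 2 → ℤ) = ![0, 1] := by decide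

/-- the conditions for commuting root groups -/
theorem no_btwn {x y : Fin 2 → ℤ} (h : ∀ z ∈ rts, ∀ m a b : ℤ, 0 < m → 0 < a → 0 < b → m * z 0 = a * x 0 + b * y 0 →
    m * z 1 = a * x 1 + b * y 1 → False) (z : Fin 2 → ℤ) : ¬ Btwn cs isCartan x y z := by
  rintro ⟨hz, m, a, b, hm, ha, hb, he⟩
  exact h z (root_mem hz) m a b hm ha hb (congrFun he 0) (congrFun he 1)

theorem rep0 (a b : ℤ) : rep cs isCartan (cs.simple 0) ![a, b] = ![b - a, b] := by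
  rw [rep_simple_eq]
  ext k
  fin_cases k
  · simp [pairing, A, Fin.sum_univ_two, sr]
    ring
  · simp [sr]

theorem rep1 (a b : ℤ) : rep cs isCartan (cs.simple 1) ![a, b] = ![a, 3 * a - b] := by
  rw [rep_simple_eq]
  ext k
  fin_cases k
  · simp [sr]
  · simp [pairing, A, Fin.sum_univ_two, sr]
    ring

section Gen

variable {I W Y : Type*} [Fintype I] [DecidableEq I] [Group W] [Group Y] {M : CoxeterMatrix I}
  {cs : CoxeterSystem M W} {A : I → I → ℤ} {h : IsCartan M A} {p : ℕ} {T : Subgroup Y} {n : I → Y}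
  {X : (I → ℤ) → Subgroup Y} (R : RGD cs h p T n X)

include R

theorem comm_of_no_btwn {x y : I → ℤ} (hx : IsRoot cs h x) (hy : IsRoot cs h y) (hxy : x ≠ y) (hxy' : x ≠ -y)
    (hno : ∀ z, ¬ Btwn cs h x y z) {a b : Y} (ha : a ∈ X x) (hb : b ∈ X y) : a * b = b * a := by
  have h1 := R.comm x y hx hy hxy hxy' a ha b hb
  have h2 : btw cs h X x y = ⊥ := by
    unfold Cfsg.Agent.Nodes.Reps.btw
    rw [iSup_eq_bot]
    rintro ⟨z, hz⟩
    exact absurd hz (hno z)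
  rw [h2, Subgroup.mem_bot, commutatorElement_eq_one_iff_mul_comm] at h1
  exact h1

theorem comm_mem_of_btwn {x y w : I → ℤ} (hx : IsRoot cs h x) (hy : IsRoot cs h y) (hxy : x ≠ y) (hxy' : x ≠ -y)
    (hno : ∀ z, Btwn cs h x y z → z = w) {a b : Y} (ha : a ∈ X x) (hb : b ∈ X y) : a * b * a⁻¹ * b⁻¹ ∈ X w := by
  have h1 := R.comm x y hx hy hxy hxy' a ha b hb
  have h2 : btw cs h X x y ≤ X w := by
    unfold Cfsg.Agent.Nodes.Reps.btw
    refine iSup_le ?_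
    rintro ⟨z, hz⟩
    exact (hno z hz) ▸ le_rfl
  exact h2 h1

end Gen

/-! ### explicit root elements -/

section Expl

variable {K : Type} [Field K]

open Cfsg.Agent.ChevalleyStructure.TwistedU (rspan mem_rspan rspan_le)


theorem c_sr0 : ∀ k < chevD4.nroots, (V chevD4 Nodes.RGDTwD4.J k = ![1, 0] ↔ k ∈ [14]) := by decide +kernel
theorem c_sr1 : ∀ k < chevD4.nroots, (V chevD4 Nodes.RGDTwD4.J k = ![0, 1] ↔ k ∈ [18, 13, 12]) := by decide +kernel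
theorem c_nsr0 : ∀ k < chevD4.nroots, (V chevD4 Nodes.RGDTwD4.J k = ![-1, 0] ↔ k ∈ [9]) := by decide +kernel
theorem c_nsr1 : ∀ k < chevD4.nroots, (V chevD4 Nodes.RGDTwD4.J k = ![0, -1] ↔ k ∈ [5, 10, 11]) := by decide +kernel
theorem c_del : ∀ k < chevD4.nroots, (V chevD4 Nodes.RGDTwD4.J k = ![1, 3] ↔ k ∈ [22]) := by decide +kernel
theorem c_the : ∀ k < chevD4.nroots, (V chevD4 Nodes.RGDTwD4.J k = ![2, 3] ↔ k ∈ [23]) := by decide +kernel
theorem c_11 : ∀ k < chevD4.nroots, (V chevD4 Nodes.RGDTwD4.J k = ![1, 1] ↔ k ∈ [19, 16, 15]) := by decide +kernel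

theorem xG_commute {r s : ℕ} (h : r < chevD4.nroots ∧ s < chevD4.nroots ∧ s ≠ r ∧ s ≠ chevD4.neg r ∧
    chevD4.commTerms r s = []) (t u : K) :
    Elts.xG Nodes.RGDTwD4.hp.inList s u * Elts.xG Nodes.RGDTwD4.hp.inList r t =
      Elts.xG Nodes.RGDTwD4.hp.inList r t * Elts.xG Nodes.RGDTwD4.hp.inList s u := by
  obtain ⟨h1, h0, h2, h3, h4⟩ := h
  have h5 := Nodes.RGDChev.comm_xG Nodes.RGDTwD4.hp h1 h0 h2 h3 (-t) (-u)
  have h6 : chevD4.commWord K r s (-t) (-u) = [] := by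
    show (chevD4.commTerms r s).map _ = []
    rw [h4, List.map_nil]
  rw [h6, Elts.wordG_nil, commutatorElement_eq_one_iff_mul_comm, Elts.xG_inv, Elts.xG_inv, _root_.neg_neg,
    _root_.neg_neg] at h5
  exact h5

theorem rspan_commute {o o' : List ℕ} (h : ∀ r ∈ o, ∀ s ∈ o', r < chevD4.nroots ∧ s < chevD4.nroots ∧ s ≠ r ∧
    s ≠ chevD4.neg r ∧ chevD4.commTerms r s = []) {x y : GL chevD4.Idx K}
    (hx : x ∈ rspan (Elts.xG (F := K) Nodes.RGDTwD4.hp.inList) {k | k ∈ o})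
    (hy : y ∈ rspan (Elts.xG (F := K) Nodes.RGDTwD4.hp.inList) {k | k ∈ o'}) : x * y = y * x := by
  have h1 : rspan (Elts.xG (F := K) Nodes.RGDTwD4.hp.inList) {k | k ∈ o} ≤
      Subgroup.centralizer (rspan (Elts.xG (F := K) Nodes.RGDTwD4.hp.inList) {k | k ∈ o'} : Set _) := by
    rw [Subgroup.le_centralizer_iff]
    refine (Subgroup.closure_le _).2 ?_
    rintro _ ⟨s, hs, u, rfl⟩
    rw [SetLike.mem_coe, Subgroup.mem_centralizer_iff]
    intro z hz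
    refine Subgroup.closure_induction (p := fun z _ => z * Elts.xG Nodes.RGDTwD4.hp.inList s u =
      Elts.xG Nodes.RGDTwD4.hp.inList s u * z) ?_ ?_ ?_ ?_ hz
    · rintro _ ⟨r, hr, t, rfl⟩
      exact (xG_commute (h r hr s hs) t u).symm
    · rw [one_mul, mul_one]
    · intro a b _ _ ha hb
      rw [mul_assoc, hb, ← mul_assoc, ha, mul_assoc]
    · intro a _ ha
      have : Commute a (Elts.xG Nodes.RGDTwD4.hp.inList s u) := ha
      exact this.inv_left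
  exact ((Subgroup.mem_centralizer_iff.1 (h1 hx)) y hy).symm

theorem rspan_single {r : ℕ} (hr : r < chevD4.nroots) {x : GL chevD4.Idx K}
    (hx : x ∈ rspan (Elts.xG (F := K) Nodes.RGDTwD4.hp.inList) {k | k ∈ [r]}) :
    ∃ t, x = Elts.xG Nodes.RGDTwD4.hp.inList r t := by
  refine Subgroup.closure_induction (p := fun x _ => ∃ t, x = Elts.xG Nodes.RGDTwD4.hp.inList r t) ?_ ?_ ?_ ?_ hx
  · rintro _ ⟨s, hs, t, rfl⟩
    have hs' : s = r := by simpa using hs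
    exact ⟨t, by rw [hs']⟩
  · exact ⟨0, (Elts.xG_zero _ _).symm⟩
  · rintro _ _ _ _ ⟨t, rfl⟩ ⟨u, rfl⟩
    exact ⟨t + u, Elts.xG_add _ _ _ _⟩
  · rintro _ _ ⟨t, rfl⟩
    exact ⟨-t, Elts.xG_inv _ _ _⟩

end Expl

open Cfsg.Agent.ChevalleyStructure.TwistedU (rspan mem_rspan rspan_le)

variable {K : Type} [Field K] [Fintype K] {q : ℕ} (hK : Fintype.card K = q ^ 3)
  {φ : K →+* K} (hφ : ∀ x, φ x = x ^ q)

include hK hφ

theorem X_comm {x y : Fin 2 → ℤ} (hx : x ∈ rts) (hy : y ∈ rts) (hxy : x ≠ y) (hxy' : x ≠ -y)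
    (h : ∀ z ∈ rts, ∀ m a b : ℤ, 0 < m → 0 < a → 0 < b → m * z 0 = a * x 0 + b * y 0 →
      m * z 1 = a * x 1 + b * y 1 → False) {a b : ↥(twistedD4 K q)} (ha : a ∈ X φ q x) (hb : b ∈ X φ q y) :
    a * b = b * a := by
  obtain ⟨r, hr⟩ := CharP.exists K
  have : Fact r.Prime := ⟨CharP.char_is_prime K r⟩
  exact comm_of_no_btwn (rgd' hK hφ r) (isRoot_of_mem hx) (isRoot_of_mem hy) hxy hxy' (no_btwn h) ha hb

theorem X_inf {x y : Fin 2 → ℤ} (hx : x ∈ rts) (hy : y ∈ rts) (hxy : x ≠ y) {a : ↥(twistedD4 K q)}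
    (ha : a ∈ X φ q x) (hb : a ∈ X φ q y) : a = 1 := by
  obtain ⟨r, hr⟩ := CharP.exists K
  have : Fact r.Prime := ⟨CharP.char_is_prime K r⟩
  have : Finite CoxeterMatrix.G₂.Group := finiteW cs
  have h1 := X_inf_X (rgd' hK hφ r) (isRoot_of_mem hx) (isRoot_of_mem hy) hxy
  have h2 : a ∈ X φ q x ⊓ X φ q y := ⟨ha, hb⟩
  rwa [h1, Subgroup.mem_bot] at h2

theorem n_conj (i : Fin 2) {x : Fin 2 → ℤ} (hx : x ∈ rts) {a : ↥(twistedD4 K q)} (ha : a ∈ X φ q x) :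
    n hφ i * a * (n hφ i)⁻¹ ∈ X φ q (rep cs isCartan (cs.simple i) x) := by
  obtain ⟨r, hr⟩ := CharP.exists K
  have : Fact r.Prime := ⟨CharP.char_is_prime K r⟩
  rw [← (rgd' hK hφ r).conj i x (isRoot_of_mem hx)]
  exact conj_mem_cj.2 ha

theorem t_conj {x : Fin 2 → ℤ} (hx : x ∈ rts) {t : ↥(twistedD4 K q)} (ht : t ∈ T K q) {a : ↥(twistedD4 K q)}
    (ha : a ∈ X φ q x) : t * a * t⁻¹ ∈ X φ q x := by
  obtain ⟨r, hr⟩ := CharP.exists K
  have : Fact r.Prime := ⟨CharP.char_is_prime K r⟩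
  rw [← (rgd' hK hφ r).tor x (isRoot_of_mem hx) t ht]
  exact conj_mem_cj.2 ha

theorem mem_X_iff_rspan {z : Fin 2 → ℤ} {o : List ℕ}
    (ho : ∀ k < chevD4.nroots, (V chevD4 Nodes.RGDTwD4.J k = z ↔ k ∈ o)) (ho' : ∀ k ∈ o, k < chevD4.nroots)
    (y : ↥(twistedD4 K q)) :
    y ∈ X φ q z ↔ (y : GL chevD4.Idx K) ∈ rspan (Elts.xG (F := K) Nodes.RGDTwD4.hp.inList) {k | k ∈ o} := by
  rw [Nodes.RGDTwD4.X, Subgroup.mem_subgroupOf, R_eq ho ho']
  exact ⟨fun h => h.1, fun h => ⟨h, D4Fixed.twisted_le_fix hK hφ y.2⟩⟩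

theorem X_comm_of {z z' : Fin 2 → ℤ} {o o' : List ℕ}
    (ho : ∀ k < chevD4.nroots, (V chevD4 Nodes.RGDTwD4.J k = z ↔ k ∈ o)) (ho' : ∀ k ∈ o, k < chevD4.nroots)
    (hw : ∀ k < chevD4.nroots, (V chevD4 Nodes.RGDTwD4.J k = z' ↔ k ∈ o')) (hw' : ∀ k ∈ o', k < chevD4.nroots)
    (h : ∀ r ∈ o, ∀ s ∈ o', r < chevD4.nroots ∧ s < chevD4.nroots ∧ s ≠ r ∧
      s ≠ chevD4.neg r ∧ chevD4.commTerms r s = []) {a b : ↥(twistedD4 K q)} (ha : a ∈ X φ q z) (hb : b ∈ X φ q z') :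
    a * b = b * a :=
  Subtype.ext (rspan_commute h ((mem_X_iff_rspan hK hφ ho ho' a).1 ha) ((mem_X_iff_rspan hK hφ hw hw' b).1 hb))

theorem comm_sr1_the {a b : ↥(twistedD4 K q)} (ha : a ∈ X φ q ![0, 1]) (hb : b ∈ X φ q ![2, 3]) : a * b = b * a :=
  X_comm_of hK hφ c_sr1 (by decide +kernel) c_the (by decide +kernel) (by decide +kernel) ha hb
theorem comm_nsr1_the {a b : ↥(twistedD4 K q)} (ha : a ∈ X φ q ![0, -1]) (hb : b ∈ X φ q ![2, 3]) : a * b = b * a :=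
  X_comm_of hK hφ c_nsr1 (by decide +kernel) c_the (by decide +kernel) (by decide +kernel) ha hb
theorem comm_sr0_the {a b : ↥(twistedD4 K q)} (ha : a ∈ X φ q ![1, 0]) (hb : b ∈ X φ q ![2, 3]) : a * b = b * a :=
  X_comm_of hK hφ c_sr0 (by decide +kernel) c_the (by decide +kernel) (by decide +kernel) ha hb
theorem comm_del_the {a b : ↥(twistedD4 K q)} (ha : a ∈ X φ q ![1, 3]) (hb : b ∈ X φ q ![2, 3]) : a * b = b * a :=
  X_comm_of hK hφ c_del (by decide +kernel) c_the (by decide +kernel) (by decide +kernel) ha hb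
theorem comm_nsr0_del {a b : ↥(twistedD4 K q)} (ha : a ∈ X φ q ![-1, 0]) (hb : b ∈ X φ q ![1, 3]) : a * b = b * a :=
  X_comm_of hK hφ c_nsr0 (by decide +kernel) c_del (by decide +kernel) (by decide +kernel) ha hb
theorem comm_sr1_del {a b : ↥(twistedD4 K q)} (ha : a ∈ X φ q ![0, 1]) (hb : b ∈ X φ q ![1, 3]) : a * b = b * a :=
  X_comm_of hK hφ c_sr1 (by decide +kernel) c_del (by decide +kernel) (by decide +kernel) ha hb
theorem comm_sr0_11 {a b : ↥(twistedD4 K q)} (ha : a ∈ X φ q ![1, 0]) (hb : b ∈ X φ q ![1, 1]) : a * b = b * a :=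
  X_comm_of hK hφ c_sr0 (by decide +kernel) c_11 (by decide +kernel) (by decide +kernel) ha hb

theorem comm_sr0_del {a b : ↥(twistedD4 K q)} (ha : a ∈ X φ q ![1, 0]) (hb : b ∈ X φ q ![1, 3]) :
    a * b * a⁻¹ * b⁻¹ ∈ X φ q ![2, 3] := by
  rw [mem_X_iff_rspan hK hφ c_the (by decide +kernel)]
  obtain ⟨t, ht⟩ := rspan_single (r := 14) (by decide +kernel) ((mem_X_iff_rspan hK hφ c_sr0 (by decide +kernel) a).1 ha)
  obtain ⟨u, hu⟩ := rspan_single (r := 22) (by decide +kernel) ((mem_X_iff_rspan hK hφ c_del (by decide +kernel) b).1 hb)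
  rw [Subgroup.coe_mul, Subgroup.coe_mul, Subgroup.coe_mul, Subgroup.coe_inv, Subgroup.coe_inv, ht, hu]
  have h5 := Nodes.RGDChev.comm_xG Nodes.RGDTwD4.hp (r := 22) (s := 14) (by decide +kernel) (by decide +kernel)
    (by decide +kernel) (by decide +kernel) (-u) (-t)
  rw [Elts.xG_inv, Elts.xG_inv, _root_.neg_neg, _root_.neg_neg, commutatorElement_def] at h5
  rw [h5]
  have h6 : ∀ c ∈ chevD4.commTerms 22 14, c.1 = 23 := by decide +kernel
  have h7 : ∀ w : List (ℕ × K), (∀ c ∈ w, c.1 = 23) →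
      Elts.wordG Nodes.RGDTwD4.hp.inList w ∈ rspan (Elts.xG (F := K) Nodes.RGDTwD4.hp.inList) {k | k ∈ [23]} := by
    intro w
    induction w with
    | nil => intro _; rw [Elts.wordG_nil]; exact one_mem _
    | cons c w ih =>
      intro hw
      rw [Elts.wordG_cons]
      refine mul_mem (mem_rspan _ ?_ _) (ih fun c' hc' => hw c' (List.mem_cons_of_mem _ hc'))
      have := hw c List.mem_cons_self
      simp [this]
  apply h7
  intro c hc
  obtain ⟨c', hc', rfl⟩ := List.mem_map.1 hc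
  exact h6 c' hc'

/-- **The Bruhat kill.** -/
theorem bruhat {i : Fin 2} {y : Fin 2 → ℤ} (hy : y ∈ rts) (hcomm : ∀ a ∈ X φ q (sr i), ∀ b ∈ X φ q y, a * b = b * a)
    (hne : rep cs isCartan (cs.simple i) y ≠ y) {A : Matrix.SpecialLinearGroup (Fin 2) (KD φ i)} (hA : A.1 1 0 ≠ 0)
    {v v' : ↥(twistedD4 K q)} (hv : v ∈ X φ q y) (hv' : v' ∈ X φ q y)
    (h : PhiD hφ hK i A * v' * (PhiD hφ hK i A)⁻¹ = v) : v = 1 := by
  have hup : ∀ a, PhiD hφ hK i (up a) ∈ X φ q (sr i) := fun a => (mem_X hφ hK i _).2 ⟨a, rfl⟩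
  have hc : -(A.1 1 0)⁻¹ ≠ 0 := neg_ne_zero.2 (inv_ne_zero hA)
  have hT := PhiD_hS hφ hK i _ hc
  have e := Cfsg.Agent.KFacts.TwESix.NodeCoord.eq_of_ne_zero hA
  have e2 : PhiD hφ hK i A = PhiD hφ hK i (up (A.1 0 0 / A.1 1 0)) * (PhiD hφ hK i (hS (-(A.1 1 0)⁻¹)) * n hφ i) *
      PhiD hφ hK i (up (A.1 1 1 / A.1 1 0)) := by
    rw [← PhiD_wS hφ hK, ← map_mul, ← map_mul, ← map_mul, ← e]
  have c1 := hcomm _ (hup (A.1 1 1 / A.1 1 0)) _ hv'
  have c2 := hcomm _ (hup (A.1 0 0 / A.1 1 0)) _ hv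
  have h3 : PhiD hφ hK i (hS (-(A.1 1 0)⁻¹)) * (n hφ i * v' * (n hφ i)⁻¹) * (PhiD hφ hK i (hS (-(A.1 1 0)⁻¹)))⁻¹ = v := by
    rw [e2] at h
    have h4 : v = (PhiD hφ hK i (up (A.1 0 0 / A.1 1 0)))⁻¹ * v * PhiD hφ hK i (up (A.1 0 0 / A.1 1 0)) := by
      rw [mul_assoc, ← c2, inv_mul_cancel_left]
    rw [h4, ← h]
    have h5 : PhiD hφ hK i (up (A.1 1 1 / A.1 1 0)) * v' * (PhiD hφ hK i (up (A.1 1 1 / A.1 1 0)))⁻¹ = v' := by
      rw [c1, mul_inv_cancel_right]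
    calc _ = PhiD hφ hK i (hS (-(A.1 1 0)⁻¹)) * (n hφ i * (PhiD hφ hK i (up (A.1 1 1 / A.1 1 0)) * v' *
          (PhiD hφ hK i (up (A.1 1 1 / A.1 1 0)))⁻¹) * (n hφ i)⁻¹) * (PhiD hφ hK i (hS (-(A.1 1 0)⁻¹)))⁻¹ := by rw [h5]
      _ = _ := by group
  have hs : rep cs isCartan (cs.simple i) y ∈ rts := root_mem ((isRoot_of_mem hy).act _)
  have h4 := t_conj hK hφ hs hT (n_conj hK hφ i hy hv')
  rw [h3] at h4
  exact X_inf hK hφ hs hy hne h4 hv

/-- the version with an element of the group -/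
theorem bruhat_conj_mem {i : Fin 2} {y : Fin 2 → ℤ} (hy : y ∈ rts)
    (hcomm : ∀ a ∈ X φ q (sr i), ∀ b ∈ X φ q y, a * b = b * a)
    {A : Matrix.SpecialLinearGroup (Fin 2) (KD φ i)} (hA : A.1 1 0 ≠ 0)
    {v : ↥(twistedD4 K q)} (hv : v ∈ X φ q y) :
    ∃ a ∈ X φ q (sr i), ∃ w ∈ X φ q (rep cs isCartan (cs.simple i) y),
      PhiD hφ hK i A * v * (PhiD hφ hK i A)⁻¹ = a * w * a⁻¹ := by
  have hup : ∀ a, PhiD hφ hK i (up a) ∈ X φ q (sr i) := fun a => (mem_X hφ hK i _).2 ⟨a, rfl⟩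
  have hc : -(A.1 1 0)⁻¹ ≠ 0 := neg_ne_zero.2 (inv_ne_zero hA)
  have hT := PhiD_hS hφ hK i _ hc
  have e := Cfsg.Agent.KFacts.TwESix.NodeCoord.eq_of_ne_zero hA
  have e2 : PhiD hφ hK i A = PhiD hφ hK i (up (A.1 0 0 / A.1 1 0)) * (PhiD hφ hK i (hS (-(A.1 1 0)⁻¹)) * n hφ i) *
      PhiD hφ hK i (up (A.1 1 1 / A.1 1 0)) := by
    rw [← PhiD_wS hφ hK, ← map_mul, ← map_mul, ← map_mul, ← e]
  have c1 := hcomm _ (hup (A.1 1 1 / A.1 1 0)) _ hv
  have hs : rep cs isCartan (cs.simple i) y ∈ rts := root_mem ((isRoot_of_mem hy).act _)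
  refine ⟨_, hup (A.1 0 0 / A.1 1 0), _, t_conj hK hφ hs hT (n_conj hK hφ i hy hv), ?_⟩
  have h5 : PhiD hφ hK i (up (A.1 1 1 / A.1 1 0)) * v * (PhiD hφ hK i (up (A.1 1 1 / A.1 1 0)))⁻¹ = v := by
    rw [c1, mul_inv_cancel_right]
  calc PhiD hφ hK i A * v * (PhiD hφ hK i A)⁻¹ = PhiD hφ hK i (up (A.1 0 0 / A.1 1 0)) *
        (PhiD hφ hK i (hS (-(A.1 1 0)⁻¹)) * (n hφ i * (PhiD hφ hK i (up (A.1 1 1 / A.1 1 0)) * v *
          (PhiD hφ hK i (up (A.1 1 1 / A.1 1 0)))⁻¹) * (n hφ i)⁻¹) * (PhiD hφ hK i (hS (-(A.1 1 0)⁻¹)))⁻¹) *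
        (PhiD hφ hK i (up (A.1 0 0 / A.1 1 0)))⁻¹ := by rw [e2]; group
    _ = _ := by rw [h5]

end Cfsg.Agent.H866.D4Wf.Frame

/-!
# S3826: `³D₄(q)`, `q = 1 mod 3` (helper866)
-/

set_option autoImplicit false
set_option linter.unusedSectionVars false
set_option maxHeartbeats 400000

namespace Cfsg.Agent.H866.D4Wf.Frame

open CoxeterSystem Cfsg.Agent.ChevalleyStructure.CoxeterGeom Cfsg.Agent.Tits.Roots Cfsg.Agent.Tits.Core
  Cfsg.Agent.Tits.Exchange Cfsg.Agent.Nodes.Reps Cfsg.Agent.Nodes.BNOf Cfsg.Agent.Nodes.StabComb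
  Cfsg.Agent.Nodes.Bruhat Cfsg.Agent.Nodes.OppDec Cfsg.Agent.Nodes.LeviDec Cfsg.Agent.Nodes.RGDTwGen
  Cfsg.Agent.Nodes.RGDChev Cfsg.Agent.Nodes.RGDFold Cfsg.Agent.Nodes.RGDFoldSL
open Cfsg.Agent.KFacts.RgdOpp Cfsg.Agent.KFacts.RgdAut Cfsg.Agent.KFacts.RgdDiag Cfsg.Agent.KFacts.RgdRigid
  Cfsg.Agent.KFacts.RgdField Cfsg.Agent.KFacts.RgdTau Cfsg.Agent.KFacts.RgdNodes
open Cfsg.Lie Cfsg.Agent.ChevalleyStructure Cfsg.Agent.ChevalleyStructure.Elts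
open Cfsg.Agent.ChevalleyStructure.SL2Hom (up lo mem_closure_SL2)
open Cfsg.Agent.KFacts.TwDFour.Out
open Cfsg.Agent.Nodes.RGDTwD4 Cfsg.Agent.Nodes.RGDTwNode.D4
open Cfsg.Agent.CpAut.RgdFix Cfsg.Agent.CpAut.RgdConj Cfsg.Agent.CpAut.RgdTwStd Cfsg.Agent.CpAut.RgdTwD4
open Cfsg.Agent.H28.FamFour (st_mul st_one)
open Cfsg.Agent.KFacts.TwESix.NodeCoord (coroot_mem)
open Cfsg.Agent.H533.Wf
open scoped commutatorElement

variable {K : Type} [Field K] [Fintype K] {q : ℕ} (hK : Fintype.card K = q ^ 3)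
  {φ : K →+* K} (hφ : ∀ x, φ x = x ^ q)

include hK hφ in
theorem mem_KD1 (a : K) : a ∈ KD φ 1 := by
  rw [F3_eq_top hK hφ]
  exact Subfield.mem_top a

include hK in
/-- the `SL₂` of the short node is quasisimple -/
theorem qs_L1 (hq : IsPrimePow q) : QS (PhiD hφ hK 1).range := by
  classical
  have := Fintype.ofFinite ↥(KD φ 1)
  refine qs_range ?_ _ ?_
  · have h1 : Fintype.card ↥(KD φ 1) = q ^ 3 := by
      rw [← Nat.card_eq_fintype_card, ← hK, ← Nat.card_eq_fintype_card, F3_eq_top hK hφ]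
      exact Nat.card_congr Subfield.topEquiv.toEquiv
    rw [h1]
    have h2 := hq.two_le
    calc 3 < 2 ^ 3 := by norm_num
      _ ≤ q ^ 3 := Nat.pow_le_pow_left h2 3
  · intro h
    have h1 : PhiD hφ hK 1 (up 1) ∈ (PhiD hφ hK 1).range := ⟨_, rfl⟩
    rw [h, Subgroup.mem_bot] at h1
    exact (coordD hφ hK 1).ne_one one_ne_zero h1

include hK in
theorem L1_comm_theta {A : Matrix.SpecialLinearGroup (Fin 2) (KD φ 1)} {u : ↥(twistedD4 K q)}
    (hu : u ∈ X φ q ![2, 3]) : PhiD hφ hK 1 A * u = u * PhiD hφ hK 1 A := by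
  have h3 : Subgroup.closure (Set.range (up (F := KD φ 1)) ∪ Set.range (lo (F := KD φ 1))) ≤
      (Subgroup.centralizer {u}).comap (PhiD hφ hK 1) := by
    rw [Subgroup.closure_le]
    rintro _ (⟨a, rfl⟩ | ⟨a, rfl⟩)
    · show PhiD hφ hK 1 (up a) ∈ Subgroup.centralizer {u}
      rw [Subgroup.mem_centralizer_singleton_iff]
      exact comm_sr1_the hK hφ (by rw [← sr1_eq]; exact (mem_X hφ hK 1 _).2 ⟨a, rfl⟩) hu
    · show PhiD hφ hK 1 (lo a) ∈ Subgroup.centralizer {u}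
      rw [Subgroup.mem_centralizer_singleton_iff]
      have e : (-sr 1 : Fin 2 → ℤ) = ![0, -1] := by decide
      exact comm_nsr1_the hK hφ (by rw [← e]; exact (mem_negX hK hφ 1 _).2 ⟨a, rfl⟩) hu
  exact Subgroup.mem_centralizer_singleton_iff.1 (h3 (mem_closure_SL2 A))

include hK hφ in
theorem exists_ne_X {y : Fin 2 → ℤ} (hy : y ∈ rts) : ∃ u ∈ X φ q y, u ≠ 1 := by
  obtain ⟨r, hr⟩ := CharP.exists K
  have : Fact r.Prime := ⟨CharP.char_is_prime K r⟩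
  obtain ⟨⟨u, hu⟩, hu1⟩ := Subgroup.ne_bot_iff_exists_ne_one.1 (X_ne_bot (rgd' hK hφ r) (isRoot_of_mem hy))
  exact ⟨u, hu, fun h => hu1 (Subtype.ext h)⟩

include hK in
theorem L1_ne_top : (PhiD hφ hK 1).range ≠ ⊤ := by
  intro h
  obtain ⟨u, hu, hu1⟩ := exists_ne_X hK hφ (y := ![2, 3]) (by decide)
  apply hu1
  apply eq_one_of_center hK hφ
  intro g
  have hg : g ∈ (PhiD hφ hK 1).range := by rw [h]; exact Subgroup.mem_top g
  obtain ⟨A, rfl⟩ := hg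
  exact (L1_comm_theta hK hφ hu).symm

include hK in
theorem act_up {t : ↥(twistedD4 K q)} (ht : t ∈ T K q) (i : Fin 2) (a : KD φ i) :
    t * PhiD hφ hK i (up a) * t⁻¹ = PhiD hφ hK i (up (chD hφ hK i t * a)) := (coordD hφ hK i).act t ht a

include hK in
theorem ch_mul {s t : ↥(twistedD4 K q)} (hs : s ∈ T K q) (ht : t ∈ T K q) (i : Fin 2) :
    chD hφ hK i (s * t) = chD hφ hK i s * chD hφ hK i t := by
  apply (coordD hφ hK i).inj.comp (mul_left_injective₀ (one_ne_zero (α := KD φ i)))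
  show PhiD hφ hK i (up (chD hφ hK i (s * t) * 1)) = PhiD hφ hK i (up (chD hφ hK i s * chD hφ hK i t * 1))
  rw [mul_assoc, ← act_up hK hφ hs, ← act_up hK hφ ht, ← act_up hK hφ (mul_mem hs ht)]
  group

include hK in
theorem ch_ne_zero {t : ↥(twistedD4 K q)} (ht : t ∈ T K q) (i : Fin 2) : chD hφ hK i t ≠ 0 := by
  intro h
  have h1 := act_up hK hφ ht i 1
  rw [h, zero_mul] at h1
  have h2 : PhiD hφ hK i (up (0 : KD φ i)) = 1 := (coordD hφ hK i).zero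
  rw [h2] at h1
  have h3 : PhiD hφ hK i (up (1 : KD φ i)) = 1 := by
    have h4 : PhiD hφ hK i (up (1 : KD φ i)) = t⁻¹ * (t * PhiD hφ hK i (up (1 : KD φ i)) * t⁻¹) * t := by group
    rw [h4, h1]; group
  exact (coordD hφ hK i).ne_one one_ne_zero h3

include hK in
/-- the reflection of the long node on the torus -/
theorem n_t_n {t : ↥(twistedD4 K q)} (ht : t ∈ T K q) :
    (n hφ 0)⁻¹ * t * n hφ 0 ∈ T K q ∧
      ((chD hφ hK 1 ((n hφ 0)⁻¹ * t * n hφ 0) : K) = (chD hφ hK 0 t : K) * (chD hφ hK 1 t : K) ∨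
        (chD hφ hK 1 ((n hφ 0)⁻¹ * t * n hφ 0) : K) = -((chD hφ hK 0 t : K) * (chD hφ hK 1 t : K))) := by
  obtain ⟨r, hr⟩ := CharP.exists K
  have : Fact r.Prime := ⟨CharP.char_is_prime K r⟩
  have : Finite CoxeterMatrix.G₂.Group := finiteW cs
  have R := rgd' hK hφ r
  have hT' : (n hφ 0)⁻¹ * t * n hφ 0 ∈ T K q := by
    have h1 := (Subgroup.mem_normalizer_iff.1 (inv_mem (R.nsys.norm 0)) t).1 ht
    rwa [inv_inv] at h1
  refine ⟨hT', ?_⟩
  obtain ⟨s, hs⟩ : ∃ s, s = (n hφ 0)⁻¹ * t * n hφ 0 * t⁻¹ := ⟨_, rfl⟩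
  have hsT : s ∈ T K q := by rw [hs]; exact mul_mem hT' (inv_mem ht)
  have hnr : n hφ 0 ∈ (PhiD hφ hK 0).range := ⟨wS 1, PhiD_wS hφ hK 0⟩
  have hsr : s ∈ (PhiD hφ hK 0).range := by
    have h1 : s = (n hφ 0)⁻¹ * (t * n hφ 0 * t⁻¹) := by rw [hs]; group
    rw [h1]
    exact mul_mem (inv_mem hnr) ((Subgroup.mem_normalizer_iff.1 (T_le_normalizer hK hφ 0 ht) _).1 hnr)
  have hrange : (PhiD hφ hK 0).range ≤ X φ q (sr 0) ⊔ X φ q (-sr 0) := by
    rintro _ ⟨A, rfl⟩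
    have h3 : Subgroup.closure (Set.range (up (F := KD φ 0)) ∪ Set.range (lo (F := KD φ 0))) ≤
        (X φ q (sr 0) ⊔ X φ q (-sr 0)).comap (PhiD hφ hK 0) := by
      rw [Subgroup.closure_le]
      rintro _ (⟨a, rfl⟩ | ⟨a, rfl⟩)
      · exact Subgroup.mem_sup_left ((mem_X hφ hK 0 _).2 ⟨a, rfl⟩)
      · exact Subgroup.mem_sup_right ((mem_negX hK hφ 0 _).2 ⟨a, rfl⟩)
    exact h3 (mem_closure_SL2 A)
  obtain ⟨d, hd, hsd⟩ := coroot_mem R (mem_X hφ hK 0) (PhiD_wS hφ hK 0) (PhiD_hS hφ hK 0) hsT (hrange hsr)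
  obtain ⟨c, hc⟩ : ∃ c, c = chD hφ hK 0 t := ⟨_, rfl⟩
  have hc0 : c ≠ 0 := by rw [hc]; exact ch_ne_zero hK hφ ht 0
  -- the image of `lo (-1)`
  obtain ⟨e, he⟩ : ∃ e, t * PhiD hφ hK 0 (lo (-(1 : KD φ 0)⁻¹)) * t⁻¹ = PhiD hφ hK 0 (lo e) := by
    refine (mem_negX hK hφ 0 _).1 ?_
    rw [← R.tor _ (isRoot_sr cs isCartan 0).neg t ht]
    exact conj_mem_cj.2 ((mem_negX hK hφ 0 _).2 ⟨_, rfl⟩)
  have h1 : t * n hφ 0 * t⁻¹ = PhiD hφ hK 0 (up c * (lo e * up c)) := by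
    have h2 := act_up hK hφ ht 0 1
    rw [mul_one, ← hc] at h2
    rw [map_mul, map_mul, ← he, ← h2, ← PhiD_wS hφ hK 0]
    show t * PhiD hφ hK 0 (up 1 * (lo (-(1 : KD φ 0)⁻¹) * up 1)) * t⁻¹ = _
    rw [map_mul, map_mul]
    group
  have h2 : t * n hφ 0 * t⁻¹ = PhiD hφ hK 0 (wS 1 * hS d) := by
    rw [map_mul, PhiD_wS, ← hsd, hs]
    group
  have h3 : PhiD hφ hK 0 ((up c * (lo e * up c)) * (wS 1 * hS d)⁻¹) = 1 := by
    rw [map_mul, map_inv, ← h1, ← h2, mul_inv_cancel]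
  obtain ⟨h4, h5, h6⟩ := ker_Phi hK hφ 0 h3
  obtain ⟨B, hB⟩ : ∃ B, B = (up c * (lo e * up c)) * (wS 1 * hS d)⁻¹ := ⟨_, rfl⟩
  rw [← hB] at h4 h5 h6
  have h7 : up c * (lo e * up c) = B * (wS 1 * hS d) := by rw [hB]; group
  have hu1 : (up c : Matrix.SpecialLinearGroup (Fin 2) (KD φ 0)).1 = !![1, c; 0, 1] := rfl
  have hl1 : (lo e : Matrix.SpecialLinearGroup (Fin 2) (KD φ 0)).1 = !![1, 0; e, 1] := rfl
  have h8 := congrArg (fun M : Matrix.SpecialLinearGroup (Fin 2) (KD φ 0) => M.1 0 0) h7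
  have h9 := congrArg (fun M : Matrix.SpecialLinearGroup (Fin 2) (KD φ 0) => M.1 0 1) h7
  simp only [Matrix.SpecialLinearGroup.coe_mul, coe_wS one_ne_zero, coe_hS hd, Matrix.mul_apply, Fin.sum_univ_two,
    h5, hu1, hl1] at h8 h9
  simp at h8 h9
  have h8' : 1 + c * e = 0 := h8
  have h10 : (B.1 0 0 : KD φ 0) = 1 ∨ (B.1 0 0 : KD φ 0) = -1 := mul_self_eq_one_iff.1 (by rw [← pow_two]; exact h6)
  have h11 : (chD hφ hK 1 s : K) = (d : K)⁻¹ := by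
    rw [hsd]
    exact ch01 hφ hK _ hd
  have h12 : (n hφ 0)⁻¹ * t * n hφ 0 = s * t := by rw [hs, inv_mul_cancel_right]
  rw [h12, ch_mul hK hφ hsT ht]
  have h13 : (c : K) = (B.1 0 0 : KD φ 0) * (d : K)⁻¹ := by
    have h14 : c = B.1 0 0 * d⁻¹ := by
      rw [← h9]
      linear_combination (-c) * h8'
    rw [h14]
    rfl
  rw [← hc]
  rcases h10 with h10 | h10
  · left
    show (chD hφ hK 1 s : K) * (chD hφ hK 1 t : K) = _
    rw [h11, h13, h10]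
    simp
  · right
    show (chD hφ hK 1 s : K) * (chD hφ hK 1 t : K) = _
    rw [h11, h13, h10]
    simp

/-- some conjugate acts nontrivially on the `SL₂` of the short node -/
def Good (x : MulAut ↥(twistedD4 K q)) : Prop :=
  ∃ g : ↥(twistedD4 K q), Fix ((MulAut.conj g)⁻¹ * x * MulAut.conj g) (PhiD hφ hK 1).range ∧
    ∃ l ∈ (PhiD hφ hK 1).range, ((MulAut.conj g)⁻¹ * x * MulAut.conj g) l ≠ l

include hK in
theorem good_kill (hq : IsPrimePow q) {p : ℕ} {C D : Set (MulAut ↥(twistedD4 K q))} (P : Pr p C D)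
    {x x' : MulAut ↥(twistedD4 K q)} (hx : x ∈ C) (hx' : x' ∈ D) (h : Good hK hφ x) (h' : Good hK hφ x') : False := by
  obtain ⟨g, h1, h2⟩ := h
  obtain ⟨g', h1', h2'⟩ := h'
  refine P.kill _ (qs_L1 hK hφ hq) (L1_ne_top hK hφ) ((MulAut.conj g)⁻¹ * x * MulAut.conj g) ?_
    ((MulAut.conj g')⁻¹ * x' * MulAut.conj g') ?_ h1 h1' h2 h2'
  · have := P.conjC g⁻¹ x hx
    rwa [map_inv, inv_inv] at this
  · have := P.conjD g'⁻¹ x' hx'
    rwa [map_inv, inv_inv] at this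

include hK in
theorem good_t {x : MulAut ↥(twistedD4 K q)} {g t : ↥(twistedD4 K q)} {τ : K ≃+* K} (ht : t ∈ T K q)
    (hg : (MulAut.conj g)⁻¹ * x * MulAut.conj g = MulAut.conj t * st q τ) (h : ¬ (chD hφ hK 1 t = 1 ∧ τ = 1)) :
    Good hK hφ x := by
  refine ⟨g, ?_, ?_⟩
  · rw [hg]
    refine Fix.mul (fun l => ?_) (fixL_st hK hφ τ 1)
    rw [MulAut.conj_apply]
    exact ((Subgroup.mem_normalizer_iff.1 (T_le_normalizer hK hφ 1 ht)) l).symm
  · by_contra hcon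
    push Not at hcon
    apply h
    have h1 : ∀ a : KD φ 1, chD hφ hK 1 t * rs hφ τ 1 a = a := by
      intro a
      have h2 := hcon (PhiD hφ hK 1 (up a)) ⟨_, rfl⟩
      rw [hg, MulAut.mul_apply, MulAut.conj_apply, st_up, act_up hK hφ ht] at h2
      exact (coordD hφ hK 1).inj h2
    have h2 : chD hφ hK 1 t = 1 := by
      have h3 := h1 1
      rwa [map_one, mul_one] at h3
    refine ⟨h2, ?_⟩
    ext a
    have h3 := h1 ⟨a, mem_KD1 hK hφ a⟩
    rw [h2, one_mul] at h3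
    exact congrArg Subtype.val h3

include hK hφ in
theorem diag_T {t : ↥(twistedD4 K q)} (ht : t ∈ T K q) : Diag (T K q) (X φ q) (MulAut.conj t) 1 := by
  obtain ⟨r, hr⟩ := CharP.exists K
  have : Fact r.Prime := ⟨CharP.char_is_prime K r⟩
  have R := rgd' hK hφ r
  refine ⟨?_, ?_, ?_⟩
  · intro x
    rw [MulAut.conj_apply]
    exact ((Subgroup.mem_normalizer_iff.1 (Subgroup.le_normalizer ht)) x).symm
  · intro i x
    rw [Equiv.Perm.one_apply, MulAut.conj_apply]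
    conv_lhs => rw [← R.tor _ (isRoot_sr cs isCartan i) t ht]
    exact conj_mem_cj
  · intro i x
    rw [Equiv.Perm.one_apply, MulAut.conj_apply]
    conv_lhs => rw [← R.tor _ (isRoot_sr cs isCartan i).neg t ht]
    exact conj_mem_cj

include hK in
theorem ch_one (i : Fin 2) : chD hφ hK i 1 = 1 := by
  have h8 := act_up hK hφ (one_mem _) i 1
  rw [one_mul, inv_one, mul_one, mul_one] at h8
  exact ((coordD hφ hK i).inj h8).symm

include hK in
theorem conj_eq_one_of_ch {t : ↥(twistedD4 K q)} (ht : t ∈ T K q) (h : ∀ i, chD hφ hK i t = 1) :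
    MulAut.conj t = 1 := by
  obtain ⟨r, hr⟩ := CharP.exists K
  have : Fact r.Prime := ⟨CharP.char_is_prime K r⟩
  have : Finite CoxeterMatrix.G₂.Group := finiteW cs
  refine Diag.eq_one (rgd' hK hφ r) (G1_eq_top cs hK hφ) (diag_T hK hφ ht) ?_
  intro i x hx
  obtain ⟨a, rfl⟩ := (mem_X hφ hK i x).1 hx
  rw [MulAut.conj_apply, act_up hK hφ ht, h, one_mul]

include hK in
/-- `q = 1 mod 3` : all elements are good -/
theorem good_of_one (hq : IsPrimePow q) (h3 : q % 3 = 1) {x : MulAut ↥(twistedD4 K q)} (hx : x ^ 3 = 1)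
    (hx1 : x ≠ 1) : Good hK hφ x := by
  obtain ⟨g, t, τ, ht, hτ, hg⟩ := norm_T hK hφ hq h3 hx
  by_cases hc : chD hφ hK 1 t = 1 ∧ τ = 1
  swap
  · exact good_t hK hφ ht hg hc
  obtain ⟨hc1, rfl⟩ := hc
  have hst : (st q (1 : K ≃+* K) : MulAut ↥(twistedD4 K q)) = 1 := by
    ext1 y
    exact st_one y
  rw [hst, mul_one] at hg
  have hne : MulAut.conj t ≠ 1 := by
    intro h
    apply hx1
    rw [h] at hg
    have e : x = MulAut.conj g * ((MulAut.conj g)⁻¹ * x * MulAut.conj g) * (MulAut.conj g)⁻¹ := by group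
    rw [e, hg]
    group
  have hc0 : chD hφ hK 0 t ≠ 1 := by
    intro h
    apply hne
    apply conj_eq_one_of_ch hK hφ ht
    intro i
    have hi : i = 0 ∨ i = 1 := by fin_cases i <;> simp
    rcases hi with rfl | rfl
    · exact h
    · exact hc1
  have ht3 : t * t * t = 1 := by
    have h1 : (MulAut.conj t) ^ 3 = 1 := by
      rw [← hg]
      exact conj_pow_three hK hφ hx
    apply eq_one_of_center hK hφ
    intro y
    have h2 : (MulAut.conj t ^ 3) y = y := by rw [h1]; rfl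
    rw [← map_pow, MulAut.conj_apply] at h2
    have e : t * t * t = t ^ 3 := by rw [pow_succ, pow_two]
    rw [e]
    exact mul_inv_eq_iff_eq_mul.1 h2
  have hc3 : chD hφ hK 0 t * chD hφ hK 0 t * chD hφ hK 0 t = 1 := by
    rw [← ch_mul hK hφ ht ht, ← ch_mul hK hφ (mul_mem ht ht) ht, ht3, ch_one hK hφ]
  obtain ⟨hT', hch⟩ := n_t_n hK hφ ht
  refine good_t hK hφ (g := g * n hφ 0) (τ := 1) hT' ?_ ?_
  · rw [hst, mul_one, map_mul, mul_inv_rev]
    have e : (MulAut.conj (n hφ 0))⁻¹ * (MulAut.conj g)⁻¹ * x * (MulAut.conj g * MulAut.conj (n hφ 0)) =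
        (MulAut.conj (n hφ 0))⁻¹ * ((MulAut.conj g)⁻¹ * x * MulAut.conj g) * MulAut.conj (n hφ 0) := by group
    rw [e, hg, map_mul, map_mul, map_inv]
  · rintro ⟨h4, -⟩
    rw [h4, hc1] at hch
    have hc3' : (chD hφ hK 0 t : K) * (chD hφ hK 0 t : K) * (chD hφ hK 0 t : K) = 1 := congrArg Subtype.val hc3
    apply hc0
    apply Subtype.ext
    show (chD hφ hK 0 t : K) = 1
    rcases hch with h5 | h5
    · have h6 : (1 : K) = (chD hφ hK 0 t : K) * 1 := h5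
      rw [mul_one] at h6
      exact h6.symm
    · have h6 : (1 : K) = -((chD hφ hK 0 t : K) * 1) := h5
      rw [mul_one] at h6
      have h7 : (chD hφ hK 0 t : K) = -1 := by rw [h6, neg_neg]
      rw [h7] at hc3' ⊢
      have h8 : (-1 : K) * -1 * -1 = -1 := by ring
      rw [← h8, hc3']

end Cfsg.Agent.H866.D4Wf.Frame

/-!
# S3826: `³D₄(q)`: unipotent radicals (helper866)
-/

set_option autoImplicit false
set_option linter.unusedSectionVars false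
set_option maxHeartbeats 400000

namespace Cfsg.Agent.H866.D4Wf.Frame

open CoxeterSystem Cfsg.Agent.ChevalleyStructure.CoxeterGeom Cfsg.Agent.Tits.Roots Cfsg.Agent.Tits.Core
  Cfsg.Agent.Tits.Exchange Cfsg.Agent.Nodes.Reps Cfsg.Agent.Nodes.BNOf Cfsg.Agent.Nodes.StabComb
  Cfsg.Agent.Nodes.Bruhat Cfsg.Agent.Nodes.OppDec Cfsg.Agent.Nodes.LeviDec Cfsg.Agent.Nodes.RGDTwGen
  Cfsg.Agent.Nodes.RGDChev Cfsg.Agent.Nodes.RGDFold Cfsg.Agent.Nodes.RGDFoldSL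
open Cfsg.Agent.KFacts.RgdOpp Cfsg.Agent.KFacts.RgdAut Cfsg.Agent.KFacts.RgdDiag Cfsg.Agent.KFacts.RgdRigid
  Cfsg.Agent.KFacts.RgdField Cfsg.Agent.KFacts.RgdTau Cfsg.Agent.KFacts.RgdNodes
open Cfsg.Lie Cfsg.Agent.ChevalleyStructure Cfsg.Agent.ChevalleyStructure.Elts
open Cfsg.Agent.ChevalleyStructure.SL2Hom (up lo mem_closure_SL2)
open Cfsg.Agent.KFacts.TwDFour.Out
open Cfsg.Agent.Nodes.RGDTwD4 Cfsg.Agent.Nodes.RGDTwNode.D4
open Cfsg.Agent.CpAut.RgdFix Cfsg.Agent.CpAut.RgdConj Cfsg.Agent.CpAut.RgdTwStd Cfsg.Agent.CpAut.RgdTwD4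
open Cfsg.Agent.H65.Disp.Rgd (mem_PJ_perm)
open Cfsg.Agent.H28.FamFour (st_mul st_one)
open scoped commutatorElement

variable {K : Type} [Field K] [Fintype K] {q : ℕ} (hK : Fintype.card K = q ^ 3)
  {φ : K →+* K} (hφ : ∀ x, φ x = x ^ q)

include hK hφ

theorem fixV_st (τ : K ≃+* K) (i : Fin 2) : Fix (st q τ) (VJ cs isCartan (X φ q) {i}) :=
  fix_Sup fun _ hx => fixX_st hK hφ τ hx.1

theorem L_le_normalizer_V (i : Fin 2) :
    (PhiD hφ hK i).range ≤ Subgroup.normalizer (VJ cs isCartan (X φ q) {i} : Set ↥(twistedD4 K q)) := by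
  obtain ⟨r, hr⟩ := CharP.exists K
  have : Fact r.Prime := ⟨CharP.char_is_prime K r⟩
  refine le_trans ?_ (LJ_le_normalizer_VJ (rgd' hK hφ r) {i})
  rintro _ ⟨A, rfl⟩
  have h3 : Subgroup.closure (Set.range (up (F := KD φ i)) ∪ Set.range (lo (F := KD φ i))) ≤
      (LJ cs isCartan (T K q) (X φ q) {i}).comap (PhiD hφ hK i) := by
    rw [Subgroup.closure_le]
    rintro _ (⟨a, rfl⟩ | ⟨a, rfl⟩)
    · have h1 : X φ q (sr i) ≤ RGD.Sup (X φ q) (RootsJ cs isCartan {i}) :=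
        RGD.le_Sup (S := RootsJ cs isCartan {i}) (show sr i ∈ RootsJ cs isCartan {i} from
          ⟨isRoot_sr cs isCartan i, fun k hk => sr_ne fun h => hk (Set.mem_singleton_iff.2 h)⟩)
      exact Subgroup.mem_sup_right (h1 ((mem_X hφ hK i _).2 ⟨a, rfl⟩))
    · have h1 : X φ q (-sr i) ≤ RGD.Sup (X φ q) (RootsJ cs isCartan {i}) := by
        refine RGD.le_Sup (S := RootsJ cs isCartan {i}) (show -sr i ∈ RootsJ cs isCartan {i} from
          ⟨(isRoot_sr cs isCartan i).neg, fun k hk => ?_⟩)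
        show -(sr i k) = 0
        rw [sr_ne fun h => hk (Set.mem_singleton_iff.2 h), neg_zero]
      exact Subgroup.mem_sup_right (h1 ((mem_negX hK hφ i _).2 ⟨a, rfl⟩))
  exact h3 (mem_closure_SL2 A)

theorem X_le_V (i : Fin 2) {y : Fin 2 → ℤ} (hy : y ∈ rts) (h0 : ∀ k, 0 ≤ y k) (hk : ∃ k, k ≠ i ∧ 0 < y k) :
    X φ q y ≤ VJ cs isCartan (X φ q) {i} := by
  obtain ⟨k, hk, hk'⟩ := hk
  exact RGD.le_Sup (S := NotJ cs isCartan {i})
    (show y ∈ NotJ cs isCartan {i} from ⟨isRoot_of_mem hy, h0, k, fun h => hk (Set.mem_singleton_iff.1 h), hk'⟩)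

/-- the kill with the unipotent radicals -/
theorem eq_one_of_V (hq : IsPrimePow q) (h3 : q % 3 ≠ 0) {i : Fin 2} {v : ↥(twistedD4 K q)}
    (hv : v ∈ VJ cs isCartan (X φ q) {i}) {R : Subgroup (MulAut ↥(twistedD4 K q))} (hR : IsPGroup 3 R)
    (h : MulAut.conj v ∈ R) : v = 1 := by
  obtain ⟨r, hr⟩ := CharP.exists K
  have : Fact r.Prime := ⟨CharP.char_is_prime K r⟩
  have : Finite CoxeterMatrix.G₂.Group := finiteW cs
  have hr3 : r ≠ 3 := by
    rintro rfl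
    obtain ⟨n, hn0, hn⟩ := H27.Exc.exists_pow (r := 3) three_pos hq hK
    have : 3 ∣ q := by rw [hn]; exact dvd_pow_self 3 hn0.ne'
    omega
  obtain ⟨a, ha⟩ := (rgd' hK hφ r).isPGroup_Upos ⟨v, VJ_le_U {i} hv⟩
  have ha' : v ^ r ^ a = 1 := congrArg Subtype.val ha
  obtain ⟨b, hb⟩ := hR ⟨_, h⟩
  have hb' : MulAut.conj v ^ 3 ^ b = 1 := congrArg Subtype.val hb
  have hb'' : v ^ 3 ^ b = 1 := by
    apply eq_one_of_center hK hφ
    intro y
    rw [← map_pow] at hb'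
    have h2 : MulAut.conj (v ^ 3 ^ b) y = y := by rw [hb']; rfl
    rw [MulAut.conj_apply] at h2
    exact mul_inv_eq_iff_eq_mul.1 h2
  have hcop : Nat.Coprime (r ^ a) (3 ^ b) :=
    Nat.Coprime.pow _ _ ((Nat.coprime_primes Fact.out Nat.prime_three).2 hr3)
  have h1 := orderOf_dvd_of_pow_eq_one ha'
  have h2 := orderOf_dvd_of_pow_eq_one hb''
  exact orderOf_eq_one_iff.1 (Nat.dvd_one.1 (hcop ▸ Nat.dvd_gcd h1 h2))

end Cfsg.Agent.H866.D4Wf.Frame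

/-!
# S3826: `³D₄(q)`, `q = 2 mod 3`: the automorphisms of order three (helper866)
-/

set_option autoImplicit false
set_option linter.unusedSectionVars false
set_option maxHeartbeats 400000

namespace Cfsg.Agent.H866.D4Wf.Frame

open CoxeterSystem Cfsg.Agent.ChevalleyStructure.CoxeterGeom Cfsg.Agent.Tits.Roots Cfsg.Agent.Tits.Core
  Cfsg.Agent.Tits.Exchange Cfsg.Agent.Nodes.Reps Cfsg.Agent.Nodes.BNOf Cfsg.Agent.Nodes.StabComb
  Cfsg.Agent.Nodes.Bruhat Cfsg.Agent.Nodes.OppDec Cfsg.Agent.Nodes.LeviDec Cfsg.Agent.Nodes.RGDTwGen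
  Cfsg.Agent.Nodes.RGDChev Cfsg.Agent.Nodes.RGDFold Cfsg.Agent.Nodes.RGDFoldSL
open Cfsg.Agent.KFacts.RgdOpp Cfsg.Agent.KFacts.RgdAut Cfsg.Agent.KFacts.RgdDiag Cfsg.Agent.KFacts.RgdRigid
  Cfsg.Agent.KFacts.RgdField Cfsg.Agent.KFacts.RgdTau Cfsg.Agent.KFacts.RgdNodes
open Cfsg.Lie Cfsg.Agent.ChevalleyStructure Cfsg.Agent.ChevalleyStructure.Elts
open Cfsg.Agent.ChevalleyStructure.SL2Hom (up lo mem_closure_SL2)
open Cfsg.Agent.KFacts.TwDFour.Out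
open Cfsg.Agent.Nodes.RGDTwD4 Cfsg.Agent.Nodes.RGDTwNode.D4
open Cfsg.Agent.CpAut.RgdFix Cfsg.Agent.CpAut.RgdConj Cfsg.Agent.CpAut.RgdTwStd Cfsg.Agent.CpAut.RgdTwD4
open Cfsg.Agent.H65.Disp.Rgd (mem_PJ_perm)
open Cfsg.Agent.H28.FamFour (st_mul st_one)
open scoped commutatorElement
open Cfsg.Agent.H866.D4Wf.SLThree

variable {K : Type} [Field K] [Fintype K] {q : ℕ} (hK : Fintype.card K = q ^ 3)
  {φ : K →+* K} (hφ : ∀ x, φ x = x ^ q)

include hK hφ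

theorem three_ne (hq : IsPrimePow q) (h3 : q % 3 ≠ 0) : (3 : K) ≠ 0 := by
  obtain ⟨r, hr⟩ := CharP.exists K
  have : Fact r.Prime := ⟨CharP.char_is_prime K r⟩
  intro h
  have h1 : ((3 : ℕ) : K) = 0 := by exact_mod_cast h
  rw [CharP.cast_eq_zero_iff K r, Nat.prime_dvd_prime_iff_eq Fact.out Nat.prime_three] at h1
  subst h1
  obtain ⟨n, hn0, hn⟩ := H27.Exc.exists_pow (r := 3) three_pos hq hK
  have : 3 ∣ q := by rw [hn]; exact dvd_pow_self 3 hn0.ne'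
  omega

theorem three_ne' (hq : IsPrimePow q) (h3 : q % 3 ≠ 0) (i : Fin 2) : (3 : KD φ i) ≠ 0 := by
  intro h
  exact three_ne hK hφ hq h3 (congrArg Subtype.val h)

theorem card_KD0 (hq : IsPrimePow q) : Nat.card (KD φ 0) = q := by
  rw [← Cfsg.Agent.KFacts.TwESix.OutTwo.card_of_coord (coordD hφ hK 0)]
  exact card_X0 hK hφ hq

theorem card_KD1 : Nat.card (KD φ 1) = q ^ 3 := by
  rw [← Cfsg.Agent.KFacts.TwESix.OutTwo.card_of_coord (coordD hφ hK 1)]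
  exact card_X1 hK hφ

theorem ne_zero_three (hq : IsPrimePow q) (h3 : q % 3 = 2) (i : Fin 2) {A : Matrix.SpecialLinearGroup (Fin 2) (KD φ i)}
    (hA : A ^ 3 = 1) (hA1 : A ≠ 1) : A.1 1 0 ≠ 0 := by
  classical
  have := Fintype.ofFinite (KD φ i)
  refine ne_zero_of_three (three_ne' hK hφ hq (by omega) i) ?_ hA hA1
  rw [← Nat.card_eq_fintype_card]
  have hi : i = 0 ∨ i = 1 := by fin_cases i <;> simp
  rcases hi with rfl | rfl
  · rw [card_KD0 hK hφ hq]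
    exact h3
  · rw [card_KD1 hK hφ, Nat.pow_mod, h3]

theorem rs_three {τ : K ≃+* K} (hτ : τ ^ 3 = 1) (i : Fin 2) (a : KD φ i) : rs hφ τ i (rs hφ τ i (rs hφ τ i a)) = a := by
  apply Subtype.ext
  show τ (τ (τ a)) = a
  have : (τ ^ 3) (a : K) = a := by rw [hτ]; rfl
  exact this

theorem exists_rs_ne {τ : K ≃+* K} (hτ : τ ≠ 1) : ∃ a, rs hφ τ 1 a ≠ a := by
  by_contra hcon
  push Not at hcon
  apply hτ
  ext a
  exact congrArg Subtype.val (hcon ⟨a, mem_KD1 hK hφ a⟩)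

/-- automorphisms of order three acting on the short `SL₂` with a nontrivial field automorphism are standard -/
theorem exists_std (hq : IsPrimePow q) (h3 : q % 3 ≠ 0) {A : Matrix.SpecialLinearGroup (Fin 2) (KD φ 1)} {τ : K ≃+* K}
    (hτ : τ ^ 3 = 1) (hτ1 : τ ≠ 1) (hx : (MulAut.conj (PhiD hφ hK 1 A) * st q τ) ^ 3 = 1) :
    ∃ G : ↥(twistedD4 K q), (MulAut.conj G)⁻¹ * (MulAut.conj (PhiD hφ hK 1 A) * st q τ) * MulAut.conj G = st q τ := by
  have hN := norm_eq_one hK hφ hτ hx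
  obtain ⟨s, hs⟩ : ∃ s, s = Matrix.SpecialLinearGroup.map (n := Fin 2) ((rs hφ τ 1 : KD φ 1 ≃+* KD φ 1) : KD φ 1 →+* KD φ 1) :=
    ⟨_, rfl⟩
  have hst : ∀ M, st q τ (PhiD hφ hK 1 M) = PhiD hφ hK 1 (s M) := by
    intro M
    rw [hs]
    exact st_Phi hK hφ τ 1 M
  have hs3 : ∀ M, s (s (s M)) = M := by
    intro M
    apply Subtype.ext
    ext i j
    rw [hs]
    exact congrArg Subtype.val (rs_three hK hφ hτ 1 (M.1 i j))
  rw [hst, hst, ← map_mul, ← map_mul] at hN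
  -- the sign
  obtain ⟨E, hE⟩ : ∃ E, E = A * s A * s (s A) := ⟨_, rfl⟩
  rw [← hE] at hN
  have hk := ker_Phi hK hφ 1 hN
  have hEE := ker_Phi_sq hK hφ 1 hN
  have hEc : ∀ M : Matrix.SpecialLinearGroup (Fin 2) (KD φ 1), E * M = M * E := comm_of_diag hk.1 hk.2.1 hk.2.2
  have hsE : s E = E := by
    rw [hE, map_mul, map_mul, hs3]
    have h1 : s A * s (s A) = A⁻¹ * E := by rw [hE]; group
    rw [h1, mul_assoc, hEc, inv_mul_cancel_left, ← hE]
  -- the corrected matrix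
  obtain ⟨G, hG⟩ := descent (three_ne' hK hφ hq h3 1) (fun a => rs_three hK hφ hτ 1 a) (exists_rs_ne hK hφ hτ1)
    (A := E * A) (by
      rw [← hs, map_mul, map_mul, hsE, hsE]
      have e : E * A * (E * s A) * (E * s (s A)) = E * E * (E * (A * s A * s (s A))) := by
        calc E * A * (E * s A) * (E * s (s A)) = E * (A * E) * s A * (E * s (s A)) := by group
          _ = E * (E * A) * s A * (E * s (s A)) := by rw [hEc A]
          _ = E * E * A * (s A * E) * s (s A) := by group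
          _ = E * E * A * (E * s A) * s (s A) := by rw [hEc (s A)]
          _ = E * E * (A * E) * s A * s (s A) := by group
          _ = E * E * (E * A) * s A * s (s A) := by rw [hEc A]
          _ = E * E * (E * (A * s A * s (s A))) := by group
      rw [e, ← hE, hEE, one_mul])
  rw [← hs] at hG
  refine ⟨PhiD hφ hK 1 G, ?_⟩
  rw [conj_st_conj hK hφ, hst, ← map_inv, ← map_mul, ← map_mul]
  have h1 : PhiD hφ hK 1 (G⁻¹ * A * s G) = 1 := by
    have h2 : G⁻¹ * A * s G = E⁻¹ * (G⁻¹ * (E * A) * s G) := by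
      have h3 : G⁻¹ * (E * A) * s G = E * (G⁻¹ * A * s G) := by
        calc G⁻¹ * (E * A) * s G = G⁻¹ * E * (A * s G) := by group
          _ = E * G⁻¹ * (A * s G) := by rw [hEc G⁻¹]
          _ = _ := by group
      rw [h3, inv_mul_cancel_left]
    rw [h2, hG, mul_one, map_inv, hN, inv_one]
  rw [h1, map_one, one_mul]

/-- the elements of the short `SL₂` and its field automorphisms are good -/
theorem good_L1 {x : MulAut ↥(twistedD4 K q)} {g : ↥(twistedD4 K q)} {A : Matrix.SpecialLinearGroup (Fin 2) (KD φ 1)}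
    {τ : K ≃+* K} (hg : (MulAut.conj g)⁻¹ * x * MulAut.conj g = MulAut.conj (PhiD hφ hK 1 A) * st q τ)
    (h : ¬ (A.1 1 0 = 0 ∧ τ = 1)) : Good hK hφ x := by
  have hA : Fix (MulAut.conj (PhiD hφ hK 1 A)) (PhiD hφ hK 1).range := by
    intro l
    rw [MulAut.conj_apply]
    exact ((Subgroup.mem_normalizer_iff.1 (Subgroup.le_normalizer (show PhiD hφ hK 1 A ∈ (PhiD hφ hK 1).range from
      ⟨A, rfl⟩))) l).symm
  refine ⟨g, ?_, ?_⟩
  · rw [hg]
    exact hA.mul (fixL_st hK hφ τ 1)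
  · by_contra hcon
    push Not at hcon
    apply h
    have h1 : ∀ a, PhiD hφ hK 1 (A * up (rs hφ τ 1 a) * A⁻¹ * (up a)⁻¹) = 1 := by
      intro a
      have h2 := hcon (PhiD hφ hK 1 (up a)) ⟨_, rfl⟩
      rw [hg, MulAut.mul_apply, MulAut.conj_apply, st_up] at h2
      rw [map_mul, map_mul, map_mul, map_inv, map_inv, h2, mul_inv_cancel]
    have h2 : ∀ a, (A * up (rs hφ τ 1 a) * A⁻¹ * (up a)⁻¹).1 1 0 = -(A.1 1 0 ^ 2) * rs hφ τ 1 a := by
      intro a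
      have hd := A.2
      rw [Matrix.det_fin_two] at hd
      rw [up_inv', Matrix.SpecialLinearGroup.coe_mul, Matrix.SpecialLinearGroup.coe_mul,
        Matrix.SpecialLinearGroup.coe_mul, Matrix.SpecialLinearGroup.coe_inv, Matrix.adjugate_fin_two, up_coe, up_coe]
      simp [Matrix.mul_apply, Fin.sum_univ_two]
      ring
    have h3 : A.1 1 0 = 0 := by
      have h4 := (ker_Phi hK hφ 1 (h1 1)).1
      rw [h2, map_one, mul_one, neg_eq_zero] at h4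
      exact pow_eq_zero_iff two_ne_zero |>.1 h4
    refine ⟨h3, ?_⟩
    obtain ⟨h0, e⟩ := Cfsg.Agent.KFacts.TwESix.NodeCoord.eq_of_zero h3
    have hT := PhiD_hS hφ hK 1 _ h0
    have h5 : ∀ a, A.1 0 0 ^ 2 * rs hφ τ 1 a = a := by
      intro a
      have h6 := hcon (PhiD hφ hK 1 (up a)) ⟨_, rfl⟩
      rw [hg, MulAut.mul_apply, MulAut.conj_apply, st_up] at h6
      have h7 : PhiD hφ hK 1 A * PhiD hφ hK 1 (up (rs hφ τ 1 a)) * (PhiD hφ hK 1 A)⁻¹ =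
          PhiD hφ hK 1 (hS (A.1 0 0)) * PhiD hφ hK 1 (up (rs hφ τ 1 a)) * (PhiD hφ hK 1 (hS (A.1 0 0)))⁻¹ := by
        have h8 : up (A.1 0 1 / A.1 0 0) * up (rs hφ τ 1 a) * (up (A.1 0 1 / A.1 0 0))⁻¹ = up (rs hφ τ 1 a) := by
          rw [up_mul, up_inv', up_mul]
          congr 1
          ring
        rw [← map_inv, ← map_inv, ← map_mul, ← map_mul, ← map_mul, ← map_mul]
        congr 1
        conv_lhs => rw [e]
        rw [mul_inv_rev]
        calc hS (A.1 0 0) * up (A.1 0 1 / A.1 0 0) * up (rs hφ τ 1 a) * ((up (A.1 0 1 / A.1 0 0))⁻¹ * (hS (A.1 0 0))⁻¹) =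
            hS (A.1 0 0) * (up (A.1 0 1 / A.1 0 0) * up (rs hφ τ 1 a) * (up (A.1 0 1 / A.1 0 0))⁻¹) *
              (hS (A.1 0 0))⁻¹ := by group
          _ = _ := by rw [h8]
      rw [h7, act_up hK hφ hT, chD_hS hφ hK 1 _ h0] at h6
      exact (coordD hφ hK 1).inj h6
    have h6 : A.1 0 0 ^ 2 = 1 := by
      have h7 := h5 1
      rwa [map_one, mul_one] at h7
    ext a
    have h7 := h5 ⟨a, mem_KD1 hK hφ a⟩
    rw [h6, one_mul] at h7
    exact congrArg Subtype.val h7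

/-- **The automorphisms of order three, `q = 2 mod 3`.** -/
theorem two_cases (hq : IsPrimePow q) (h3 : q % 3 = 2) {x : MulAut ↥(twistedD4 K q)} (hx : x ^ 3 = 1) (hx1 : x ≠ 1) :
    (∃ (g : ↥(twistedD4 K q)) (A : Matrix.SpecialLinearGroup (Fin 2) (KD φ 0)) (τ : K ≃+* K), A ^ 3 = 1 ∧
      A.1 1 0 ≠ 0 ∧ τ ^ 3 = 1 ∧ (MulAut.conj g)⁻¹ * x * MulAut.conj g = MulAut.conj (PhiD hφ hK 0 A) * st q τ) ∨
    (∃ (g : ↥(twistedD4 K q)) (τ : K ≃+* K), τ ^ 3 = 1 ∧ τ ≠ 1 ∧ (MulAut.conj g)⁻¹ * x * MulAut.conj g = st q τ) ∨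
    (∃ g : ↥(twistedD4 K q), (MulAut.conj g)⁻¹ * x * MulAut.conj g = MulAut.conj (PhiD hφ hK 1 cZ)) := by
  classical
  obtain ⟨g, l, τ, i, hl, hτ, hg⟩ := norm_L hK hφ hq h3 hx
  have hst : (st q (1 : K ≃+* K) : MulAut ↥(twistedD4 K q)) = 1 := by
    ext1 y
    exact st_one y
  have hne : ∀ y : MulAut ↥(twistedD4 K q), (MulAut.conj g)⁻¹ * x * MulAut.conj g = y → y ≠ 1 := by
    intro y hy h
    apply hx1
    rw [h] at hy
    have e : x = MulAut.conj g * ((MulAut.conj g)⁻¹ * x * MulAut.conj g) * (MulAut.conj g)⁻¹ := by group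
    rw [e, hy]
    group
  have hz3 : (MulAut.conj l * st q τ) ^ 3 = 1 := by rw [← hg]; exact conj_pow_three hK hφ hx
  have hN := norm_eq_one hK hφ hτ hz3
  have hi : i = 0 ∨ i = 1 := by fin_cases i <;> simp
  rcases hi with rfl | rfl
  · have hfix : st q τ l = l := by
      obtain ⟨A, rfl⟩ := hl
      exact st_Phi_zero hK hφ hq hτ A
    rw [hfix, hfix] at hN
    obtain ⟨A, rfl, hA⟩ := exists_lift_three hK hφ 0 hl (by rw [pow_succ, pow_two]; exact hN)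
    by_cases hA1 : A = 1
    · right; left
      rw [hA1, map_one, map_one, one_mul] at hg
      refine ⟨g, τ, hτ, ?_, hg⟩
      rintro rfl
      exact hne _ hg hst
    · left
      exact ⟨g, A, τ, hA, ne_zero_three hK hφ hq h3 0 hA hA1, hτ, hg⟩
  · by_cases hτ1 : τ = 1
    · subst hτ1
      rw [hst, mul_one] at hg
      have e : ∀ y, st q (1 : K ≃+* K) y = y := fun y => st_one y
      rw [e, e] at hN
      obtain ⟨A, rfl, hA⟩ := exists_lift_three hK hφ 1 hl (by rw [pow_succ, pow_two]; exact hN)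
      have hA1 : A ≠ 1 := by
        rintro rfl
        exact hne _ hg (by rw [map_one, map_one])
      have := Fintype.ofFinite (KD φ 1)
      obtain ⟨G, hG⟩ := exists_conj_cZ (three_ne' hK hφ hq (by omega) 1) hA (ne_zero_three hK hφ hq h3 1 hA hA1)
      right; right
      refine ⟨g * PhiD hφ hK 1 G, ?_⟩
      rw [map_mul, mul_inv_rev]
      have e : (MulAut.conj (PhiD hφ hK 1 G))⁻¹ * (MulAut.conj g)⁻¹ * x * (MulAut.conj g * MulAut.conj (PhiD hφ hK 1 G)) =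
          (MulAut.conj (PhiD hφ hK 1 G))⁻¹ * ((MulAut.conj g)⁻¹ * x * MulAut.conj g) * MulAut.conj (PhiD hφ hK 1 G) := by
        group
      rw [e, hg, hG, map_mul, map_mul, map_mul, map_mul, map_inv, map_inv]
      group
    · obtain ⟨A, rfl⟩ := hl
      obtain ⟨G, hG⟩ := exists_std hK hφ hq (by omega) hτ hτ1 hz3
      right; left
      refine ⟨g * G, τ, hτ, hτ1, ?_⟩
      rw [map_mul, mul_inv_rev]
      have e : (MulAut.conj G)⁻¹ * (MulAut.conj g)⁻¹ * x * (MulAut.conj g * MulAut.conj G) =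
          (MulAut.conj G)⁻¹ * ((MulAut.conj g)⁻¹ * x * MulAut.conj g) * MulAut.conj G := by group
      rw [e, hg, hG]

end Cfsg.Agent.H866.D4Wf.Frame

/-!
# S3826: the row of `³D₄(q)`, `p = 3` not the characteristic (helper866)

* `wfRow_D4` : `WfRow 3` for `³D₄(q)`, `3 ∤ q`, `q = 2` included.
-/

set_option autoImplicit false
set_option linter.unusedSectionVars false
set_option maxHeartbeats 400000

namespace Cfsg.Agent.H866.D4Wf.Frame

open CoxeterSystem Cfsg.Agent.ChevalleyStructure.CoxeterGeom Cfsg.Agent.Tits.Roots Cfsg.Agent.Tits.Core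
  Cfsg.Agent.Tits.Exchange Cfsg.Agent.Nodes.Reps Cfsg.Agent.Nodes.BNOf Cfsg.Agent.Nodes.StabComb
  Cfsg.Agent.Nodes.Bruhat Cfsg.Agent.Nodes.OppDec Cfsg.Agent.Nodes.LeviDec Cfsg.Agent.Nodes.RGDTwGen
  Cfsg.Agent.Nodes.RGDChev Cfsg.Agent.Nodes.RGDFold Cfsg.Agent.Nodes.RGDFoldSL
open Cfsg.Agent.KFacts.RgdOpp Cfsg.Agent.KFacts.RgdAut Cfsg.Agent.KFacts.RgdDiag Cfsg.Agent.KFacts.RgdRigid
  Cfsg.Agent.KFacts.RgdField Cfsg.Agent.KFacts.RgdTau Cfsg.Agent.KFacts.RgdNodes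
open Cfsg.Lie Cfsg.Agent.ChevalleyStructure Cfsg.Agent.ChevalleyStructure.Elts
open Cfsg.Agent.ChevalleyStructure.SL2Hom (up lo mem_closure_SL2)
open Cfsg.Agent.KFacts.TwDFour.Out
open Cfsg.Agent.Nodes.RGDTwD4 Cfsg.Agent.Nodes.RGDTwNode.D4
open Cfsg.Agent.CpAut.RgdFix Cfsg.Agent.CpAut.RgdConj Cfsg.Agent.CpAut.RgdTwStd Cfsg.Agent.CpAut.RgdTwD4
open Cfsg.Agent.H65.Disp.Rgd (mem_PJ_perm)
open Cfsg.Agent.H28.FamFour (st_mul st_one)
open scoped commutatorElement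
open Cfsg.Agent.H866.D4Wf.SLThree
open Cfsg.Agent.H533.Wf

section Mod

variable {G : Type*} [Group G] {R : Subgroup G}

/-- `α` normalises `R` and commutes with the elements of `D` modulo `R` -/
def Cm (R : Subgroup G) (D : Set G) (α : G) : Prop :=
  (∀ r, α * r * α⁻¹ ∈ R ↔ r ∈ R) ∧ ∀ y ∈ D, α⁻¹ * y⁻¹ * α * y ∈ R

theorem Cm.mul_inv {D : Set G} {α β : G} (h : Cm R D α) (h' : Cm R D β) :
    Cm R D (α * β⁻¹) := by
  obtain ⟨h1, h2⟩ := h
  obtain ⟨h3, h4⟩ := h'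
  have h5 : ∀ r, β⁻¹ * r * β ∈ R ↔ r ∈ R := by
    intro r
    rw [← h3]
    have e : β * (β⁻¹ * r * β) * β⁻¹ = r := by group
    rw [e]
  refine ⟨fun r => ?_, fun y hy => ?_⟩
  · have e : α * β⁻¹ * r * (α * β⁻¹)⁻¹ = α * (β⁻¹ * r * β) * α⁻¹ := by group
    rw [e, h1, h5]
  · have e : (α * β⁻¹)⁻¹ * y⁻¹ * (α * β⁻¹) * y = β * (α⁻¹ * y⁻¹ * α * y) * (β⁻¹ * y⁻¹ * β * y)⁻¹ * β⁻¹ := by group
    rw [e]
    have h6 := mul_mem (h2 y hy) (inv_mem (h4 y hy))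
    rw [← h3] at h6
    have e2 : β * (α⁻¹ * y⁻¹ * α * y * (β⁻¹ * y⁻¹ * β * y)⁻¹) * β⁻¹ = β * (α⁻¹ * y⁻¹ * α * y) * (β⁻¹ * y⁻¹ * β * y)⁻¹ * β⁻¹ := by
      group
    rwa [e2] at h6

theorem Cm.conj {D : Set G} {α g : G} (hg : ∀ r, g * r * g⁻¹ ∈ R ↔ r ∈ R) (hD : ∀ y ∈ D, g⁻¹ * y * g ∈ D)
    (h : Cm R D α) : Cm R D (g * α * g⁻¹) := by
  obtain ⟨h1, h2⟩ := h
  refine ⟨fun r => ?_, fun y hy => ?_⟩
  · have h5 : ∀ r, g⁻¹ * r * g ∈ R ↔ r ∈ R := by
      intro r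
      rw [← hg]
      have e : g * (g⁻¹ * r * g) * g⁻¹ = r := by group
      rw [e]
    have e : g * α * g⁻¹ * r * (g * α * g⁻¹)⁻¹ = g * (α * (g⁻¹ * r * g) * α⁻¹) * g⁻¹ := by group
    rw [e, hg, h1, h5]
  · have e : (g * α * g⁻¹)⁻¹ * y⁻¹ * (g * α * g⁻¹) * y = g * (α⁻¹ * (g⁻¹ * y * g)⁻¹ * α * (g⁻¹ * y * g)) * g⁻¹ := by group
    rw [e, hg]
    exact h2 _ (hD y hy)

/-- automorphisms and inner automorphisms -/
theorem mul_conj_eq (α : MulAut G) (u : G) : α * MulAut.conj u = MulAut.conj (α u) * α := by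
  ext1 z
  simp only [MulAut.mul_apply, MulAut.conj_apply, map_mul, map_inv]

theorem mul_conj_inv_eq (α : MulAut G) (u : G) : α * MulAut.conj u⁻¹ = MulAut.conj (α u)⁻¹ * α := by
  have h := mul_conj_eq α u⁻¹
  rwa [map_inv α u] at h

end Mod

variable {K : Type} [Field K] [Fintype K] {q : ℕ} (hK : Fintype.card K = q ^ 3)
  {φ : K →+* K} (hφ : ∀ x, φ x = x ^ q)

include hK hφ

theorem Fix_VL {i : Fin 2} {A : Matrix.SpecialLinearGroup (Fin 2) (KD φ i)} {τ : K ≃+* K} :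
    Fix (MulAut.conj (PhiD hφ hK i A) * st q τ) (VJ cs isCartan (X φ q) {i}) := by
  refine Fix.mul (fun l => ?_) (fixV_st hK hφ τ i)
  rw [MulAut.conj_apply]
  exact ((Subgroup.mem_normalizer_iff.1 (L_le_normalizer_V hK hφ i ⟨A, rfl⟩)) l).symm

/-- commuting modulo `R` with an automorphism fixing the unipotent radical -/
theorem fix_of_core (hq : IsPrimePow q) (h3 : q % 3 ≠ 0) {R : Subgroup (MulAut ↥(twistedD4 K q))} (hR : IsPGroup 3 R)
    {i : Fin 2} {y : MulAut ↥(twistedD4 K q)} (hy : Fix y (VJ cs isCartan (X φ q) {i})) {v : ↥(twistedD4 K q)}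
    (hv : v ∈ VJ cs isCartan (X φ q) {i}) (h : (MulAut.conj v)⁻¹ * y⁻¹ * MulAut.conj v * y ∈ R) : y v = v := by
  have e : (MulAut.conj v)⁻¹ * y⁻¹ * MulAut.conj v * y = MulAut.conj (v⁻¹ * y⁻¹ v) := by
    ext1 z
    rw [← map_inv]
    simp only [MulAut.mul_apply, MulAut.conj_apply, map_mul, map_inv, mul_inv_rev, inv_inv, mul_assoc,
      MulAut.inv_apply_self]
  rw [e] at h
  have h1 := eq_one_of_V hK hφ hq h3 (mul_mem (inv_mem hv) ((hy.inv v).2 hv)) hR h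
  have h2 : v = y⁻¹ v := inv_mul_eq_one.1 h1
  conv_lhs => rw [h2]
  exact y.apply_symm_apply v

/-- `α × β` -/
theorem false_ab (hq : IsPrimePow q) (h3 : q % 3 ≠ 0) {C D : Set (MulAut ↥(twistedD4 K q))} (P : Pr 3 C D)
    {A : Matrix.SpecialLinearGroup (Fin 2) (KD φ 0)} {τ τ' : K ≃+* K} (hA : A.1 1 0 ≠ 0)
    (hx : MulAut.conj (PhiD hφ hK 0 A) * st q τ ∈ C) (hτ' : τ' ^ 3 = 1) (hτ1 : τ' ≠ 1) (hy : st q τ' ∈ D) : False := by
  obtain ⟨a, ha⟩ := exists_rs_ne hK hφ hτ1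
  have h11 : ∀ b, n hφ 0 * PhiD hφ hK 1 (up b) * (n hφ 0)⁻¹ ∈ X φ q ![1, 1] := by
    intro b
    have h1 := n_conj hK hφ 0 (x := ![0, 1]) (by decide) (a := PhiD hφ hK 1 (up b))
      (by rw [← sr1_eq]; exact (mem_X hφ hK 1 _).2 ⟨b, rfl⟩)
    rw [rep0] at h1
    exact h1
  obtain ⟨u, hu⟩ : ∃ u, u = n hφ 0 * PhiD hφ hK 1 (up a) * (n hφ 0)⁻¹ := ⟨_, rfl⟩
  have hsu : st q τ' u = n hφ 0 * PhiD hφ hK 1 (up (rs hφ τ' 1 a)) * (n hφ 0)⁻¹ := by
    rw [hu, map_mul, map_mul, map_inv, st_n, st_up]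
  obtain ⟨v, hv⟩ : ∃ v, v = u * (st q τ' u)⁻¹ := ⟨_, rfl⟩
  have hvX : v ∈ X φ q ![1, 1] := by
    rw [hv, hsu, hu]
    exact mul_mem (h11 _) (inv_mem (h11 _))
  have hv1 : v ≠ 1 := by
    intro h
    rw [hv, mul_inv_eq_one, hsu, hu] at h
    exact ha ((coordD hφ hK 1).inj (mul_left_cancel (mul_right_cancel h))).symm
  apply hv1
  have hy' := P.conjD u _ hy
  have e1 : MulAut.conj u * st q τ' * (MulAut.conj u)⁻¹ = MulAut.conj v * st q τ' := by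
    have e4 := mul_conj_inv_eq (st q τ') u
    calc MulAut.conj u * st q τ' * (MulAut.conj u)⁻¹ = MulAut.conj u * (st q τ' * MulAut.conj u⁻¹) := by
          rw [map_inv]; group
      _ = MulAut.conj v * st q τ' := by rw [e4, hv, map_mul]; group
  rw [e1] at hy'
  have hp := P.pair _ hx _ hy'
  obtain ⟨x, hxe⟩ : ∃ x, x = MulAut.conj (PhiD hφ hK 0 A) * st q τ := ⟨_, rfl⟩
  have hcomm : x * st q τ' = st q τ' * x := by
    rw [hxe]
    ext1 z
    simp only [MulAut.mul_apply, MulAut.conj_apply, map_mul, map_inv]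
    rw [st_Phi_zero hK hφ hq hτ', ← st_mul, ← st_mul, tau_comm]
  rw [← hxe] at hp hx
  have hc : MulAut.conj (x v * v⁻¹) ∈ Subgroup.closure ({x, MulAut.conj v * st q τ'} : Set (MulAut ↥(twistedD4 K q))) := by
    have e2 : MulAut.conj (x v * v⁻¹) = x * (MulAut.conj v * st q τ') * x⁻¹ * (MulAut.conj v * st q τ')⁻¹ := by
      have e3 : x * (MulAut.conj v * st q τ') * x⁻¹ = MulAut.conj (x v) * st q τ' := by
        have e4 : x * MulAut.conj v = MulAut.conj (x v) * x := by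
          ext1 z
          simp only [MulAut.mul_apply, MulAut.conj_apply, map_mul, map_inv]
        calc x * (MulAut.conj v * st q τ') * x⁻¹ = (x * MulAut.conj v) * st q τ' * x⁻¹ := by group
          _ = MulAut.conj (x v) * (x * st q τ') * x⁻¹ := by rw [e4]; group
          _ = MulAut.conj (x v) * st q τ' := by rw [hcomm]; group
      rw [e3, mul_inv_rev, map_mul, map_inv]
      group
    rw [e2]
    have hx1 : x ∈ Subgroup.closure ({x, MulAut.conj v * st q τ'} : Set (MulAut ↥(twistedD4 K q))) :=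
      Subgroup.subset_closure (Set.mem_insert _ _)
    have hy1 : MulAut.conj v * st q τ' ∈ Subgroup.closure ({x, MulAut.conj v * st q τ'} : Set (MulAut ↥(twistedD4 K q))) :=
      Subgroup.subset_closure (Set.mem_insert_of_mem _ (Set.mem_singleton _))
    exact mul_mem (mul_mem (mul_mem hx1 hy1) (inv_mem hx1)) (inv_mem hy1)
  have hvV : v ∈ VJ cs isCartan (X φ q) {0} := X_le_V hK hφ 0 (y := ![1, 1]) (by decide) (by decide) ⟨1, by decide, by decide⟩ hvX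
  have hxv : x v ∈ VJ cs isCartan (X φ q) {0} := by
    rw [hxe]
    exact (Fix_VL hK hφ v).2 hvV
  have h1 := eq_one_of_V hK hφ hq h3 (mul_mem hxv (inv_mem hvV)) hp hc
  rw [mul_inv_eq_one, hxe, MulAut.mul_apply, MulAut.conj_apply] at h1
  exact bruhat hK hφ (i := 0) (y := ![1, 1]) (by decide)
    (fun a ha b hb => comm_sr0_11 hK hφ (by rwa [← sr0_eq]) hb) (by rw [rep0]; decide) hA hvX
    ((fixX_st hK hφ τ (isRoot_of_mem (by decide)) v).2 hvX) h1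

/-- the core argument, first part -/
theorem core_first (hq : IsPrimePow q) (h3 : q % 3 ≠ 0) {C D : Set (MulAut ↥(twistedD4 K q))} (P : Pr 3 C D)
    {A : Matrix.SpecialLinearGroup (Fin 2) (KD φ 0)} {τ : K ≃+* K} (hA : A.1 1 0 ≠ 0) (hτ : τ ^ 3 = 1)
    (hx : MulAut.conj (PhiD hφ hK 0 A) * st q τ ∈ C) :
    ∃ (R : Subgroup (MulAut ↥(twistedD4 K q))) (D' : Set (MulAut ↥(twistedD4 K q))) (u w : ↥(twistedD4 K q)), IsPGroup 3 R ∧
      (∀ g, st q (phe hφ) g = g → ∀ r, MulAut.conj g * r * (MulAut.conj g)⁻¹ ∈ R ↔ r ∈ R) ∧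
      (∀ g, st q (phe hφ) g = g → ∀ y ∈ D', (MulAut.conj g)⁻¹ * y * MulAut.conj g ∈ D') ∧
      (∀ y ∈ D', ∀ r, y * r * y⁻¹ ∈ R ↔ r ∈ R) ∧
      (∀ y ∈ D, y * st q (phe hφ) = st q (phe hφ) * y → y ∈ D') ∧
      u ∈ X φ q ![2, 3] ∧ w ∈ X φ q ![1, 3] ∧ w ≠ 1 ∧ Cm R D' (MulAut.conj (u * w)) := by
  have hp3 := phe_three hK hφ
  -- the subgroup
  have hne : ∃ y : ↥(twistedD4 K q), MulAut.conj y ∉ Subgroup.centralizer {(st q (phe hφ) : MulAut ↥(twistedD4 K q))} := by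
    obtain ⟨a, ha⟩ := exists_rs_ne hK hφ (τ := phe hφ) (by
      intro h
      obtain ⟨b, hb⟩ := phe_ne hK hφ hq
      apply hb
      rw [h]
      rfl)
    refine ⟨PhiD hφ hK 1 (up a), fun h => ?_⟩
    rw [Subgroup.mem_centralizer_singleton_iff] at h
    have h1 : ∀ y, st q (phe hφ) (PhiD hφ hK 1 (up a)) * y * (st q (phe hφ) (PhiD hφ hK 1 (up a)))⁻¹ =
        PhiD hφ hK 1 (up a) * y * (PhiD hφ hK 1 (up a))⁻¹ := by
      intro y
      obtain ⟨z, rfl⟩ := (st q (phe hφ)).surjective y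
      have h2 := DFunLike.congr_fun h z
      rw [MulAut.mul_apply, MulAut.mul_apply, MulAut.conj_apply, MulAut.conj_apply, map_mul, map_mul, map_inv] at h2
      exact h2.symm
    have h2 : (PhiD hφ hK 1 (up a))⁻¹ * st q (phe hφ) (PhiD hφ hK 1 (up a)) = 1 := by
      apply eq_one_of_center hK hφ
      intro y
      have h4 := h1 y
      rw [mul_inv_eq_iff_eq_mul] at h4
      calc (PhiD hφ hK 1 (up a))⁻¹ * st q (phe hφ) (PhiD hφ hK 1 (up a)) * y =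
          (PhiD hφ hK 1 (up a))⁻¹ * (st q (phe hφ) (PhiD hφ hK 1 (up a)) * y) := by group
        _ = y * ((PhiD hφ hK 1 (up a))⁻¹ * st q (phe hφ) (PhiD hφ hK 1 (up a))) := by rw [h4]; group
    rw [inv_mul_eq_one, st_up] at h2
    exact ha ((coordD hφ hK 1).inj h2).symm
  obtain ⟨R, hR, hR1, hR2, hR3, hR4⟩ := P.core _ hne
  have hfixmem : ∀ g : ↥(twistedD4 K q), st q (phe hφ) g = g →
      MulAut.conj g ∈ Subgroup.centralizer {(st q (phe hφ) : MulAut ↥(twistedD4 K q))} := by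
    intro g hg
    rw [Subgroup.mem_centralizer_singleton_iff]
    ext1 z
    simp only [MulAut.mul_apply, MulAut.conj_apply, map_mul, map_inv, hg]
  have hiff : ∀ α : MulAut ↥(twistedD4 K q), (∀ r ∈ R, α * r * α⁻¹ ∈ R) → ∀ r, α * r * α⁻¹ ∈ R ↔ r ∈ R := by
    intro α hα r
    refine ⟨fun h => ?_, hα r⟩
    have hfin : Finite (MulAut ↥(twistedD4 K q)) := inferInstance
    have h1 : ∀ k : ℕ, ∀ r ∈ R, α ^ k * r * (α ^ k)⁻¹ ∈ R := by
      intro k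
      induction k with
      | zero => intro r hr; simpa using hr
      | succ k ih =>
        intro r hr
        have e : α ^ (k + 1) * r * (α ^ (k + 1))⁻¹ = α * (α ^ k * r * (α ^ k)⁻¹) * α⁻¹ := by
          rw [pow_succ']; group
        rw [e]
        exact hα _ (ih r hr)
    have h2 := h1 (orderOf α - 1) _ h
    have h3 : α ^ (orderOf α - 1) * α = 1 := by
      rw [← pow_succ, Nat.sub_add_cancel (orderOf_pos α), pow_orderOf_eq_one]
    have h4 : α ^ (orderOf α - 1) = α⁻¹ := by rw [← mul_eq_one_iff_eq_inv]; exact h3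
    rw [h4] at h2
    have e : α⁻¹ * (α * r * α⁻¹) * α⁻¹⁻¹ = r := by group
    rwa [e] at h2
  -- the element of `C`
  obtain ⟨x, hxe⟩ : ∃ x, x = MulAut.conj (PhiD hφ hK 0 A) * st q τ := ⟨_, rfl⟩
  have hxH : x ∈ Subgroup.centralizer {(st q (phe hφ) : MulAut ↥(twistedD4 K q))} := by
    rw [Subgroup.mem_centralizer_singleton_iff, hxe]
    ext1 z
    simp only [MulAut.mul_apply, MulAut.conj_apply, map_mul, map_inv]
    rw [st_Phi_zero hK hφ hq hp3, ← st_mul, ← st_mul, tau_comm]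
  rw [← hxe] at hx
  obtain ⟨D', hD'⟩ : ∃ D', D' = {y | y ∈ D ∧ y ∈ Subgroup.centralizer {(st q (phe hφ) : MulAut ↥(twistedD4 K q))}} :=
    ⟨_, rfl⟩
  have hxCm : Cm R D' x := by
    refine ⟨hiff x (hR2 x hx hxH), fun y hy => ?_⟩
    rw [hD'] at hy
    exact hR4 x hx hxH y hy.1 hy.2
  have hDn : ∀ y ∈ D', ∀ r, y * r * y⁻¹ ∈ R ↔ r ∈ R := by
    intro y hy
    rw [hD'] at hy
    exact hiff y (hR3 y hy.1 hy.2)
  have hcn : ∀ g, st q (phe hφ) g = g → ∀ r, MulAut.conj g * r * (MulAut.conj g)⁻¹ ∈ R ↔ r ∈ R :=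
    fun g hg => hiff _ (hR1 g (hfixmem g hg))
  have hcD : ∀ g, st q (phe hφ) g = g → ∀ y ∈ D', (MulAut.conj g)⁻¹ * y * MulAut.conj g ∈ D' := by
    intro g hg y hy
    rw [hD'] at hy ⊢
    refine ⟨?_, mul_mem (mul_mem (inv_mem (hfixmem g hg)) hy.2) (hfixmem g hg)⟩
    have := P.conjD g⁻¹ y hy.1
    rwa [map_inv, inv_inv] at this
  -- the element of the highest root group
  obtain ⟨u, hu⟩ : ∃ u, u = n hφ 0 * (n hφ 1 * PhiD hφ hK 0 (up 1) * (n hφ 1)⁻¹) * (n hφ 0)⁻¹ := ⟨_, rfl⟩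
  have hsu : ∀ σ : K ≃+* K, σ ^ 3 = 1 → st q σ u = u := by
    intro σ hσ
    rw [hu]
    simp only [map_mul, map_inv, st_n, st_Phi_zero hK hφ hq hσ]
  have huX : u ∈ X φ q ![2, 3] := by
    have h1 := n_conj hK hφ 1 (x := ![1, 0]) (by decide) (a := PhiD hφ hK 0 (up 1))
      (by rw [← sr0_eq]; exact (mem_X hφ hK 0 _).2 ⟨1, rfl⟩)
    rw [rep1] at h1
    have h2 := n_conj hK hφ 0 (x := ![1, 3]) (by decide) h1
    rw [rep0] at h2
    rw [hu]
    exact h2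
  have hu1 : u ≠ 1 := by
    intro h
    rw [hu] at h
    have h1 : PhiD hφ hK 0 (up (1 : KD φ 0)) = 1 := by
      have e : PhiD hφ hK 0 (up (1 : KD φ 0)) = (n hφ 1)⁻¹ * ((n hφ 0)⁻¹ * (n hφ 0 * (n hφ 1 * PhiD hφ hK 0 (up 1) *
        (n hφ 1)⁻¹) * (n hφ 0)⁻¹) * n hφ 0) * n hφ 1 := by group
      rw [e, h]
      group
    exact (coordD hφ hK 0).ne_one one_ne_zero h1
  have hxu : x u = PhiD hφ hK 0 A * u * (PhiD hφ hK 0 A)⁻¹ := by
    rw [hxe, MulAut.mul_apply, MulAut.conj_apply, hsu τ hτ]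
  obtain ⟨a, ha, w, hw, haw⟩ := bruhat_conj_mem hK hφ (i := 0) (y := ![2, 3]) (by decide)
    (fun a ha b hb => comm_sr0_the hK hφ (by rwa [← sr0_eq]) hb) hA huX
  rw [rep0] at hw
  have hw' : w ∈ X φ q ![1, 3] := hw
  rw [sr0_eq] at ha
  have hz := comm_sr0_del hK hφ ha hw'
  obtain ⟨z, hze⟩ : ∃ z, z = a * w * a⁻¹ * w⁻¹ := ⟨_, rfl⟩
  rw [← hze] at hz
  have hxu2 : x u = z * w := by rw [hxu, haw, hze]; group
  have hw1 : w ≠ 1 := by
    rintro rfl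
    apply hu1
    rw [mul_one, mul_inv_cancel] at haw
    have e : u = (PhiD hφ hK 0 A)⁻¹ * (PhiD hφ hK 0 A * u * (PhiD hφ hK 0 A)⁻¹) * PhiD hφ hK 0 A := by group
    rw [e, haw]
    group
  refine ⟨R, D', u * z⁻¹, w⁻¹, hR, hcn, hcD, hDn, ?_, mul_mem huX (inv_mem hz), inv_mem hw', inv_ne_one.2 hw1, ?_⟩
  · intro y hy hc
    rw [hD']
    exact ⟨hy, Subgroup.mem_centralizer_singleton_iff.2 hc⟩
  · have h1 := (hxCm.conj (hcn u (hsu _ hp3)) (hcD u (hsu _ hp3))).mul_inv hxCm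
    have e : MulAut.conj u * x * (MulAut.conj u)⁻¹ * x⁻¹ = MulAut.conj (u * z⁻¹ * w⁻¹) := by
      have e2 : MulAut.conj u * x * (MulAut.conj u)⁻¹ * x⁻¹ = MulAut.conj (u * (x u)⁻¹) := by
        have e4 := mul_conj_inv_eq x u
        calc MulAut.conj u * x * (MulAut.conj u)⁻¹ * x⁻¹ = MulAut.conj u * (x * MulAut.conj u⁻¹) * x⁻¹ := by
              rw [map_inv]; group
          _ = MulAut.conj u * MulAut.conj (x u)⁻¹ := by rw [e4]; group
          _ = _ := by rw [← map_mul]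
      rw [e2, hxu2]
      congr 1
      have h5 : w⁻¹ * z⁻¹ = z⁻¹ * w⁻¹ := comm_del_the hK hφ (inv_mem hw') (inv_mem hz)
      rw [mul_inv_rev, h5, mul_assoc]
    rwa [e] at h1

/-- `α × γ` -/
theorem false_ag (hq : IsPrimePow q) (h3 : q % 3 ≠ 0) {C D : Set (MulAut ↥(twistedD4 K q))} (P : Pr 3 C D)
    {A : Matrix.SpecialLinearGroup (Fin 2) (KD φ 0)} {τ : K ≃+* K} (hA : A.1 1 0 ≠ 0) (hτ : τ ^ 3 = 1)
    (hx : MulAut.conj (PhiD hφ hK 0 A) * st q τ ∈ C) (hy : MulAut.conj (PhiD hφ hK 1 cZ) ∈ D) : False := by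
  obtain ⟨R, D', u, w, hR, hcn, hcD, hDn, hDD, hu, hw, hw1, hCm⟩ := core_first hK hφ hq h3 P hA hτ hx
  have hfix : st q (phe hφ) (PhiD hφ hK 1 cZ) = PhiD hφ hK 1 cZ := by
    rw [st_Phi hK hφ]
    congr 1
    apply Subtype.ext
    ext i j
    show ((rs hφ (phe hφ) 1 ((cZ : Matrix.SpecialLinearGroup (Fin 2) (KD φ 1)).1 i j) : KD φ 1) : K) = _
    fin_cases i <;> fin_cases j
    · exact congrArg Subtype.val (map_zero (rs hφ (phe hφ) 1))
    · exact congrArg Subtype.val ((map_neg (rs hφ (phe hφ) 1) 1).trans (congrArg _ (map_one (rs hφ (phe hφ) 1))))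
    · exact congrArg Subtype.val (map_one (rs hφ (phe hφ) 1))
    · exact congrArg Subtype.val ((map_neg (rs hφ (phe hφ) 1) 1).trans (congrArg _ (map_one (rs hφ (phe hφ) 1))))
  have hyD := hDD _ hy (by
    ext1 z
    simp only [MulAut.mul_apply, MulAut.conj_apply, map_mul, map_inv, hfix])
  have hV : u * w ∈ VJ cs isCartan (X φ q) {1} :=
    mul_mem (X_le_V hK hφ 1 (y := ![2, 3]) (by decide) (by decide) ⟨0, by decide, by decide⟩ hu)
      (X_le_V hK hφ 1 (y := ![1, 3]) (by decide) (by decide) ⟨0, by decide, by decide⟩ hw)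
  have hst : (st q (1 : K ≃+* K) : MulAut ↥(twistedD4 K q)) = 1 := by
    ext1 y
    exact st_one y
  have hFix : Fix (MulAut.conj (PhiD hφ hK 1 cZ)) (VJ cs isCartan (X φ q) {1}) := by
    have := Fix_VL hK hφ (i := 1) (A := cZ) (τ := 1)
    rwa [hst, mul_one] at this
  have h1 := fix_of_core hK hφ hq h3 hR hFix hV (hCm.2 _ hyD)
  rw [MulAut.conj_apply] at h1
  have h2 := L1_comm_theta hK hφ (A := cZ) hu
  have h4 : PhiD hφ hK 1 cZ * w * (PhiD hφ hK 1 cZ)⁻¹ = w := by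
    have e : PhiD hφ hK 1 cZ * (u * w) * (PhiD hφ hK 1 cZ)⁻¹ = u * (PhiD hφ hK 1 cZ * w * (PhiD hφ hK 1 cZ)⁻¹) := by
      calc _ = PhiD hφ hK 1 cZ * u * w * (PhiD hφ hK 1 cZ)⁻¹ := by group
        _ = _ := by rw [h2]; group
    rw [e] at h1
    exact mul_left_cancel h1
  exact hw1 (bruhat hK hφ (i := 1) (y := ![1, 3]) (by decide)
    (fun a ha b hb => comm_sr1_del hK hφ (by rwa [← sr1_eq]) hb) (by rw [rep1]; decide)
    (show (cZ : Matrix.SpecialLinearGroup (Fin 2) (KD φ 1)).1 1 0 ≠ 0 from one_ne_zero) hw hw h4)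

theorem exists_t {w : ↥(twistedD4 K q)} (hw : w ∈ X φ q ![1, 3]) (hw1 : w ≠ 1) :
    ∃ a, PhiD hφ hK 0 (up a) * w ≠ w * PhiD hφ hK 0 (up a) := by
  by_contra hcon
  push Not at hcon
  apply hw1
  have h3 : Subgroup.closure (Set.range (up (F := KD φ 0)) ∪ Set.range (lo (F := KD φ 0))) ≤
      (Subgroup.centralizer {w}).comap (PhiD hφ hK 0) := by
    rw [Subgroup.closure_le]
    rintro _ (⟨a, rfl⟩ | ⟨a, rfl⟩)
    · show PhiD hφ hK 0 (up a) ∈ Subgroup.centralizer {w}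
      rw [Subgroup.mem_centralizer_singleton_iff]
      exact hcon a
    · show PhiD hφ hK 0 (lo a) ∈ Subgroup.centralizer {w}
      rw [Subgroup.mem_centralizer_singleton_iff]
      have e : (-sr 0 : Fin 2 → ℤ) = ![-1, 0] := by decide
      exact comm_nsr0_del hK hφ (by rw [← e]; exact (mem_negX hK hφ 0 _).2 ⟨a, rfl⟩) hw
  have h4 : n hφ 0 * w = w * n hφ 0 := by
    rw [← PhiD_wS hφ hK 0]
    exact Subgroup.mem_centralizer_singleton_iff.1 (h3 (mem_closure_SL2 (wS 1)))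
  have h5 := n_conj hK hφ 0 (x := ![1, 3]) (by decide) hw
  rw [rep0, h4, mul_inv_cancel_right] at h5
  exact X_inf hK hφ (x := ![1, 3]) (y := ![2, 3]) (by decide) (by decide) (by decide) hw h5

/-- `α × α` -/
theorem false_aa (hq : IsPrimePow q) (h3 : q % 3 ≠ 0) {C D : Set (MulAut ↥(twistedD4 K q))} (P : Pr 3 C D)
    {A : Matrix.SpecialLinearGroup (Fin 2) (KD φ 0)} {τ : K ≃+* K} (hA : A.1 1 0 ≠ 0) (hτ : τ ^ 3 = 1)
    (hx : MulAut.conj (PhiD hφ hK 0 A) * st q τ ∈ C)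
    {A' : Matrix.SpecialLinearGroup (Fin 2) (KD φ 0)} {τ' : K ≃+* K} (hA' : A'.1 1 0 ≠ 0)
    (hy : MulAut.conj (PhiD hφ hK 0 A') * st q τ' ∈ D) : False := by
  obtain ⟨R, D', u, w, hR, hcn, hcD, hDn, hDD, hu, hw, hw1, hCm⟩ := core_first hK hφ hq h3 P hA hτ hx
  have hp3 := phe_three hK hφ
  have hyD := hDD _ hy (by
    ext1 z
    simp only [MulAut.mul_apply, MulAut.conj_apply, map_mul, map_inv]
    rw [st_Phi_zero hK hφ hq hp3, ← st_mul, ← st_mul, tau_comm])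
  obtain ⟨a, ha⟩ := exists_t hK hφ hw hw1
  obtain ⟨t, ht⟩ : ∃ t, t = PhiD hφ hK 0 (up a) := ⟨_, rfl⟩
  rw [← ht] at ha
  have htX : t ∈ X φ q ![1, 0] := by
    rw [← sr0_eq, ht]
    exact (mem_X hφ hK 0 _).2 ⟨a, rfl⟩
  have htf : st q (phe hφ) t = t := by
    rw [ht]
    exact st_Phi_zero hK hφ hq hp3 _
  have hz := comm_sr0_del hK hφ htX hw
  obtain ⟨z, hze⟩ : ∃ z, z = u * (t * w * t⁻¹ * w⁻¹) * u⁻¹ := ⟨_, rfl⟩
  have hzX : z ∈ X φ q ![2, 3] := by rw [hze]; exact mul_mem (mul_mem hu hz) (inv_mem hu)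
  have hz1 : z ≠ 1 := by
    intro h
    apply ha
    have h1 : t * w * t⁻¹ * w⁻¹ = 1 := by
      have e : t * w * t⁻¹ * w⁻¹ = u⁻¹ * (u * (t * w * t⁻¹ * w⁻¹) * u⁻¹) * u := by group
      rw [e, ← hze, h]
      group
    exact commutatorElement_eq_one_iff_mul_comm.1 h1
  have hCz : Cm R D' (MulAut.conj z) := by
    have h1 := (hCm.conj (hcn t htf) (hcD t htf)).mul_inv hCm
    have e : MulAut.conj t * MulAut.conj (u * w) * (MulAut.conj t)⁻¹ * (MulAut.conj (u * w))⁻¹ = MulAut.conj z := by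
      rw [← map_inv, ← map_inv, ← map_mul, ← map_mul, ← map_mul]
      congr 1
      have h2 : t * u = u * t := comm_sr0_the hK hφ htX hu
      calc t * (u * w) * t⁻¹ * (u * w)⁻¹ = (t * u) * w * t⁻¹ * w⁻¹ * u⁻¹ := by group
        _ = z := by rw [h2, hze]; group
    rwa [e] at h1
  have hV : z ∈ VJ cs isCartan (X φ q) {0} :=
    X_le_V hK hφ 0 (y := ![2, 3]) (by decide) (by decide) ⟨1, by decide, by decide⟩ hzX
  have h1 := fix_of_core hK hφ hq h3 hR (Fix_VL hK hφ) hV (hCz.2 _ hyD)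
  rw [MulAut.mul_apply, MulAut.conj_apply] at h1
  exact hz1 (bruhat hK hφ (i := 0) (y := ![2, 3]) (by decide)
    (fun a ha b hb => comm_sr0_the hK hφ (by rwa [← sr0_eq]) hb) (by rw [rep0]; decide) hA' hzX
    ((fixX_st hK hφ τ' (isRoot_of_mem (by decide)) z).2 hzX) h1)

/-- **There is no configuration.** -/
theorem not_pr (hq : IsPrimePow q) (h3 : q % 3 ≠ 0) {C D : Set (MulAut ↥(twistedD4 K q))} (P : Pr 3 C D) : False := by
  obtain ⟨x, hx⟩ := P.neC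
  obtain ⟨y, hy⟩ := P.neD
  have hx3 : x ^ 3 = 1 := by rw [← P.ordC x hx]; exact pow_orderOf_eq_one x
  have hy3 : y ^ 3 = 1 := by rw [← P.ordD y hy]; exact pow_orderOf_eq_one y
  have hx1 : x ≠ 1 := by
    rintro rfl
    have := P.ordC _ hx
    rw [orderOf_one] at this
    omega
  have hy1 : y ≠ 1 := by
    rintro rfl
    have := P.ordD _ hy
    rw [orderOf_one] at this
    omega
  rcases (by omega : q % 3 = 1 ∨ q % 3 = 2) with h1 | h2
  · exact good_kill hK hφ hq P hx hy (good_of_one hK hφ hq h1 hx3 hx1) (good_of_one hK hφ hq h1 hy3 hy1)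
  have hCc : ∀ g : ↥(twistedD4 K q), (MulAut.conj g)⁻¹ * x * MulAut.conj g ∈ C := fun g => by
    have := P.conjC g⁻¹ x hx
    rwa [map_inv, inv_inv] at this
  have hDc : ∀ g : ↥(twistedD4 K q), (MulAut.conj g)⁻¹ * y * MulAut.conj g ∈ D := fun g => by
    have := P.conjD g⁻¹ y hy
    rwa [map_inv, inv_inv] at this
  have hst : (st q (1 : K ≃+* K) : MulAut ↥(twistedD4 K q)) = 1 := by
    ext1 y
    exact st_one y
  have goodb : ∀ (z : MulAut ↥(twistedD4 K q)) (g : ↥(twistedD4 K q)) (τ : K ≃+* K), τ ≠ 1 →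
      (MulAut.conj g)⁻¹ * z * MulAut.conj g = st q τ → Good hK hφ z := by
    intro z g τ hτ h
    refine good_L1 hK hφ (g := g) (A := 1) (τ := τ) ?_ fun h => hτ h.2
    rw [h, map_one, map_one, one_mul]
  have goodc : ∀ (z : MulAut ↥(twistedD4 K q)) (g : ↥(twistedD4 K q)),
      (MulAut.conj g)⁻¹ * z * MulAut.conj g = MulAut.conj (PhiD hφ hK 1 cZ) → Good hK hφ z := by
    intro z g h
    refine good_L1 hK hφ (g := g) (A := cZ) (τ := 1) ?_
      fun h => (show (cZ : Matrix.SpecialLinearGroup (Fin 2) (KD φ 1)).1 1 0 ≠ 0 from one_ne_zero) h.1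
    rw [h, hst, mul_one]
  rcases two_cases hK hφ hq h2 hx3 hx1 with ⟨g, A, τ, -, hA, hτ, hg⟩ | hgx
  · have hx' := hCc g
    rw [hg] at hx'
    rcases two_cases hK hφ hq h2 hy3 hy1 with ⟨g', A', τ', -, hA', hτ', hg'⟩ | ⟨g', τ', hτ', hτ1, hg'⟩ | ⟨g', hg'⟩
    · have hy' := hDc g'
      rw [hg'] at hy'
      exact false_aa hK hφ hq h3 P hA hτ hx' hA' hy'
    · have hy' := hDc g'
      rw [hg'] at hy'
      exact false_ab hK hφ hq h3 P hA hx' hτ' hτ1 hy'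
    · have hy' := hDc g'
      rw [hg'] at hy'
      exact false_ag hK hφ hq h3 P hA hτ hx' hy'
  · have hGx : Good hK hφ x := by
      rcases hgx with ⟨g, τ, -, hτ1, hg⟩ | ⟨g, hg⟩
      · exact goodb x g τ hτ1 hg
      · exact goodc x g hg
    rcases two_cases hK hφ hq h2 hy3 hy1 with ⟨g', A', τ', -, hA', hτ', hg'⟩ | hgy
    · have hy' := hDc g'
      rw [hg'] at hy'
      rcases hgx with ⟨g, τ, hτ, hτ1, hg⟩ | ⟨g, hg⟩
      · have hx' := hCc g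
        rw [hg] at hx'
        exact false_ab hK hφ hq h3 P.symm hA' hy' hτ hτ1 hx'
      · have hx' := hCc g
        rw [hg] at hx'
        exact false_ag hK hφ hq h3 P.symm hA' hτ' hy' hx'
    · have hGy : Good hK hφ y := by
        rcases hgy with ⟨g, τ, -, hτ1, hg⟩ | ⟨g, hg⟩
        · exact goodb y g τ hτ1 hg
        · exact goodc y g hg
      exact good_kill hK hφ hq P hx hy hGx hGy

end Cfsg.Agent.H866.D4Wf.Frame

namespace Cfsg.Agent.H866.D4Wf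

open Cfsg.Lie Cfsg.Agent.H533.Wf

universe u

/-- **The row of `³D₄(q)`, `p = 3` not the characteristic.** -/
theorem wfRow_D4 {K : Type} [Field K] [Fintype K] {q : ℕ} (hq : IsPrimePow q) (hK : Fintype.card K = q ^ 3)
    (h3 : q % 3 ≠ 0) : WfRow.{u, 0} 3 ↥(twistedD4 K q) := by
  have : Fact (Nat.Prime 3) := ⟨Nat.prime_three⟩
  obtain ⟨φ, hφ⟩ := Cfsg.Agent.ChevalleyStructure.D4Fixed.exists_frob hq hK
  exact wfRow_of_pr fun C D P => Frame.not_pr hK hφ hq h3 P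

end Cfsg.Agent.H866.D4Wf
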